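import Cfsg.Agent.Lib.Invol.Suz.Loc.Order

/-!
# The involutions of the centralizer of a four-group inverting `t` on a triangle

The four-group is spanned by `z` and an element of `Q`; the involutions in question are counted by their hats.
-/

set_option autoImplicit false
set_option linter.unusedSectionVars false
set_option linter.style.haveILetI false
set_option maxRecDepth 100000

namespace Cfsg.Agent.Fus.SuzUniq

open Cfsg Cfsg.Agent.Classical.BinCoc Cfsg.Agent.Invol.Big Cfsg.Agent.Invol.Big.Code Cfsg.Agent.Invol.Suz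
  Cfsg.Agent.Invol.Suz.Loc

/-- One more image respects the form. -/
def okStep (g c : ℕ) (l : List (ℕ × ℕ)) : Bool :=
  (K6.q c == K6.q g) && l.all fun r => bq K6 c r.2 == bq K6 g r.1

/-- The partial isometries on a list of generators, grown one generator at a time. -/
def srch : List (ℕ × List ℕ) → List (List (ℕ × ℕ))
  | [] => [[]]
  | (g, cs) :: t => (srch t).flatMap fun l => (cs.filter fun c => okStep g c l).map fun c => (g, c) :: l

theorem mem_srch (f : ℕ → ℕ) : ∀ gens : List (ℕ × List ℕ), (∀ p ∈ gens, f p.1 ∈ p.2) →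
    (∀ p ∈ gens, K6.q (f p.1) = K6.q p.1) →
    (∀ p ∈ gens, ∀ r ∈ gens, bq K6 (f p.1) (f r.1) = bq K6 p.1 r.1) →
    (gens.map fun p => (p.1, f p.1)) ∈ srch gens
  | [], _, _, _ => by simp [srch]
  | (g, cs) :: t, h1, h2, h3 => by
    simp only [srch, List.map_cons, List.mem_flatMap, List.mem_map, List.mem_filter]
    refine ⟨_, mem_srch f t (fun p hp => h1 p (List.mem_cons_of_mem _ hp)) (fun p hp => h2 p (List.mem_cons_of_mem _ hp))
      (fun p hp r hr => h3 p (List.mem_cons_of_mem _ hp) r (List.mem_cons_of_mem _ hr)), f g,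
      ⟨h1 (g, cs) (List.mem_cons_self ..), ?_⟩, rfl⟩
    simp only [okStep, Bool.and_eq_true, beq_iff_eq, List.all_eq_true, List.mem_map]
    refine ⟨h2 (g, cs) (List.mem_cons_self ..), ?_⟩
    rintro _ ⟨r, hr, rfl⟩
    exact h3 (g, cs) (List.mem_cons_self ..) r (List.mem_cons_of_mem _ hr)

/-- The generators: five basic vectors and the one fixed. -/
def gensV (v : ℕ) : List (ℕ × List ℕ) :=
  [(16, pts K6), (8, pts K6), (4, pts K6), (2, pts K6), (1, pts K6), (v, [v])]

/-- The action of the second base on codes. -/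
def lt (a : ℕ) : ℕ := ap K6 fT (2 * a) / 2

/-- The action is an involution and its product with the second base has order dividing three. -/
def linOk (T : List ℕ) : Bool :=
  (List.range 6).all fun i =>
    T.getD (T.getD (2 ^ i) 0) 0 == 2 ^ i &&
      (fun u : ℕ → ℕ => u (u (u (2 ^ i))) == 2 ^ i) fun a => T.getD (lt a) 0

/-- The conditions on a hat. -/
def hatOk (x : ℕ) (h : List ℕ) : Bool :=
  (ap K6 h x == x) && (cmp K6 h h == idH K6) &&
    (fun k => cmp K6 k (cmp K6 k k) == idH K6) (cmp K6 h fT) && !(h == fT)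

/-- The hats over an action. -/
def signs (T : List ℕ) : List (List ℕ) :=
  (List.range 64).map fun s => (List.range 6).map fun i => 2 * T.getD (2 ^ i) 0 + if s.testBit i then 1 else 0

/-- All hats of the wanted involutions. -/
def cands (x : ℕ) : List (List ℕ) :=
  (srch (gensV (x / 2))).flatMap fun l =>
    if linOk (mkTab K6 l) then (signs (mkTab K6 l)).filter (hatOk x) else []

theorem cands_f : (cands 74).length = 16 := by decide +kernel

theorem cands_g : (cands 93).length = 16 := by decide +kernel

variable {G : Type*} [Group G] [Finite G] {z : G} {Q : Subgroup G} {cd : G → ℕ} {S : Setting z Q cd} {g : ℕ → G}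

/-- An involution of the centralizer of `z` and `f` with a product of order three with `t`. -/
structure InS (z t f x : G) : Prop where
  cz : x * z = z * x
  cf : x * f = f * x
  sq : x * x = 1
  cube : x * t * (x * t) * (x * t) = 1
  ne : x ≠ t

theorem cube_mul_z {z w : G} (hz : z * z = 1) (hw : w * z = z * w) (h : w * w * w = 1) :
    w * z * (w * z) * (w * z) = z := by
  calc w * z * (w * z) * (w * z) = w * (z * w) * z * (w * z) := by group
    _ = w * w * (z * z) * (w * z) := by rw [← hw]; group
    _ = w * w * w * z := by rw [hz]; group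
    _ = z := by rw [h, one_mul]

theorem tz_cube (M : Mdl S g) : g 2 * z * g 2 * (g 2 * z * g 2) * (g 2 * z * g 2) = z := by
  have e : g 2 * z * g 2 = z := by rw [(M.hat 2).comm, mul_assoc, M.g2_sq, mul_one]
  rw [e, S.code.ext.zz, one_mul]

theorem hat_mem (M : Mdl S g) {c : ℕ} (hc : c < 128) (hcov : covers K6 ((gensV (c / 2)).map Prod.fst) = true)
    {x : G} (hx : InS z (g 2) (el S.code c) x) {h : List ℕ} (H : IsHat S.code x h) : h ∈ cands c := by
  have h6 : ∀ {i}, i < K6.n → (2 : ℕ) ^ i < 2 ^ K6.n := fun hi => Nat.pow_lt_pow_right (by norm_num) hi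
  have hzx := hx.cz
  have htz : g 2 * z = z * g 2 := (M.hat 2).comm
  set f := S.code.act x with hf
  have hadd : ∀ a b, a < 2 ^ K6.n → b < 2 ^ K6.n → f (a ^^^ b) = f a ^^^ f b := fun a b ha hb =>
    S.code.act_xor hzx ha hb
  have hv : c / 2 < 2 ^ K6.n := by rw [K6_n]; omega
  have hfix : f (c / 2) = c / 2 := by
    have := S.code.act_cd hzx (el_mem S.code c)
    rwa [hx.cf, mul_inv_cancel_right, cd_el S.code (show c < 2 ^ (K6.n + 1) by rw [K6_n]; omega)] at this
  have hgl : ∀ p ∈ gensV (c / 2), p.1 < 2 ^ K6.n := by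
    intro p hp
    simp only [gensV, List.mem_cons, List.not_mem_nil, or_false] at hp
    rcases hp with rfl | rfl | rfl | rfl | rfl | rfl <;> first | exact hv | (rw [K6_n]; norm_num)
  have hmem : ((gensV (c / 2)).map fun p => (p.1, f p.1)) ∈ srch (gensV (c / 2)) := by
    refine mem_srch f _ (fun p hp => ?_) (fun p hp => S.code.act_q hzx (hgl p hp))
      fun p hp r hr => S.code.bq_act hzx (hgl p hp) (hgl r hr)
    simp only [gensV, List.mem_cons, List.not_mem_nil, or_false] at hp
    rcases hp with rfl | rfl | rfl | rfl | rfl | rfl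
    all_goals first
      | exact List.mem_range.2 (S.code.act_lt hzx _)
      | simp [hfix]
  set T := mkTab K6 ((gensV (c / 2)).map fun p => (p.1, f p.1)) with hT
  have hTf : ∀ a < 2 ^ K6.n, T.getD a 0 = f a := fun a ha => by
    rw [hT, show ((gensV (c / 2)).map fun p => (p.1, f p.1)) =
      ((gensV (c / 2)).map Prod.fst).map fun u => (u, f u) by rw [List.map_map]; rfl]
    refine mkTab_eq K6 f hadd _ (fun u hu => ?_) ha ?_
    · obtain ⟨p, hp, rfl⟩ := List.mem_map.1 hu
      exact hgl p hp
    · simp only [covers, List.all_eq_true, pts, List.mem_range, List.contains_iff_mem] at hcov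
      exact hcov a ha
  have hlt : ∀ a < 2 ^ K6.n, S.code.act (g 2) a = lt a := fun a ha => (M.hat 2).act_eq ha
  have hTu : ∀ a < 2 ^ K6.n, T.getD (lt a) 0 = S.code.act (x * g 2) a := fun a ha => by
    rw [← hlt a ha, hTf _ (S.code.act_lt htz a), S.code.act_mul hzx htz ha]
  have hxt : x * g 2 * z = z * (x * g 2) := comm_mul hzx htz
  have hlin : linOk T = true := by
    simp only [linOk, List.all_eq_true, List.mem_range, Bool.and_eq_true, beq_iff_eq]
    intro i hi
    have hi' : (2 : ℕ) ^ i < 2 ^ K6.n := h6 hi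
    refine ⟨?_, ?_⟩
    · rw [hTf _ hi', hTf _ (S.code.act_lt hzx _), hf, ← S.code.act_mul hzx hzx hi', hx.sq, S.code.act_one hi']
    · have hl := S.code.act_lt hxt
      rw [hTu _ hi', hTu _ (hl _), hTu _ (hl _), ← S.code.act_mul hxt hxt hi',
        ← S.code.act_mul hxt (comm_mul hxt hxt) hi', ← mul_assoc, hx.cube, S.code.act_one hi']
  have hhat : hatOk c h = true := by
    simp only [hatOk, Bool.and_eq_true, beq_iff_eq, Bool.not_eq_true', beq_eq_false_iff_ne]
    refine ⟨⟨⟨?_, ?_⟩, ?_⟩, fun e => ?_⟩
    · refine el_inj S.code (H.app_lt c) (by rw [K6_n]; omega) ?_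
      rw [← H.app, hx.cf, mul_inv_cancel_right]
    · refine (H.mul H).ext_eq ?_
      rw [hx.sq]; exact isHat_one S.code
    · have K := H.mul ((M.hat 2).ext_hat (show gH 2 = fT from rfl))
      refine (K.mul (K.mul K)).ext_eq ?_
      rw [← mul_assoc (x * g 2), hx.cube]
      exact isHat_one S.code
    · rcases (M.hat 2).cancel (H.ext_hat (e.trans (show fT = gH 2 from rfl))) with e' | e'
      · exact hx.ne e'
      · have h1 := hx.cube
        rw [e', tz_cube M] at h1
        exact S.code.ne h1
  refine List.mem_flatMap.2 ⟨_, hmem, ?_⟩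
  rw [if_pos hlin]
  refine List.mem_filter.2 ⟨?_, hhat⟩
  have hhi : ∀ i < K6.n, h.getD i 0 / 2 = T.getD (2 ^ i) 0 := fun i hi => by
    have h2 := (idH_spec (K := K6) hi).2
    have e1 := cd_el S.code (H.lt i hi)
    rw [← H.eq i hi, ← S.code.act_cd hzx (el_mem S.code _), cd_el S.code h2,
      Nat.mul_div_cancel_left _ two_pos] at e1
    rw [hTf _ (h6 hi)]
    exact e1.symm
  refine List.mem_map.2 ⟨Nat.ofBits (fun i : Fin 6 => decide (h.getD i 0 % 2 = 1)),
    List.mem_range.2 (Nat.ofBits_lt_two_pow _), ?_⟩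
  have hlen : h.length = 6 := H.len.trans K6_n
  refine List.ext_getElem (by simp [hlen]) fun i hi hi' => ?_
  have hi6 : i < 6 := hlen ▸ hi'
  rw [List.getElem_map, List.getElem_range, ← List.getD_eq_getElem h 0 hi', ← hhi i (by rw [K6_n]; exact hi6)]
  rw [Nat.testBit_ofBits_lt _ i hi6]
  rcases Nat.mod_two_eq_zero_or_one (h.getD i 0) with e | e <;> simp only [e, zero_ne_one, decide_false, decide_true,
    Bool.false_eq_true, if_false, if_true] <;> omega

/-- There are at most as many of these involutions as hats. -/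
theorem card_InS (M : Mdl S g) {c : ℕ} (hc : c < 128) (hcov : covers K6 ((gensV (c / 2)).map Prod.fst) = true) :
    Nat.card {x // InS z (g 2) (el S.code c) x} ≤ (cands c).length := by
  classical
  choose h hh using fun x : {x // InS z (g 2) (el S.code c) x} => exists_hat S.code x.2.cz
  refine (Nat.card_le_card_of_injective
    (fun x => (⟨h x, List.mem_toFinset.2 (hat_mem M hc hcov x.2 (hh x))⟩ : (cands c).toFinset))
    fun x y e => ?_).trans (by
      rw [Nat.card_eq_fintype_card, Fintype.card_coe]; exact List.toFinset_card_le _)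
  have e' : h x = h y := congrArg Subtype.val e
  rcases (hh x).cancel ((hh y).ext_hat e'.symm) with e1 | e1
  · exact Subtype.ext e1.symm
  · exfalso
    have htz : g 2 * z = z * g 2 := (M.hat 2).comm
    have h1 := y.2.cube
    rw [e1, show (x : G) * z * g 2 = x * g 2 * z by rw [mul_assoc, ← htz, mul_assoc],
      cube_mul_z S.code.ext.zz (comm_mul x.2.cz htz) x.2.cube] at h1
    exact S.code.ne h1

end Cfsg.Agent.Fus.SuzUniq
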