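import Cfsg.Agent.Lib.Spor.Cos.Suz.Order
import Cfsg.Agent.Lib.Spor.Cos.Suz.IsSimple
import Cfsg.Agent.Lib.Spor.Cos.Suz.LowCert
import Cfsg.Agent.Lib.Fus.SuzUniq.Cert.J2Cert
import Cfsg.Agent.Lib.Fus.SuzUniq.Cert.G24Cert
import Cfsg.Agent.Lib.Fus.SuzUniq.Cert.TopCert

/-!
# Seven involutions with the first relations of the Suzuki group in a group of that order

The last relation of the presentation is not assumed: without it the group has at most twelve times the order.
-/

set_option autoImplicit false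
set_option linter.unusedSectionVars false
set_option maxRecDepth 100000

open Cfsg.Agent.Spor.Cos

namespace Cfsg.Agent.Fus.SuzUniq

/-- All relations but the last one. -/
def relWords : List (List ℕ) := Suz.words.take 25

theorem relWords_sub : ∀ w ∈ relWords, w ∈ Suz.words := fun _ h => List.mem_of_mem_take h

/-- The bound without the last relation. -/
theorem bound {H : Type*} [Group H] {g : ℕ → H} (hinv : ∀ s, g s * g s = 1) (hw : ∀ w ∈ relWords, ev g w = 1) :
    Bound g [0, 1, 2, 3, 4, 5, 6] 5380145971200 := by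
  have h0 : Bound g [] 1 := Bound.nil
  have h1 : Bound g [0, 1] 10 :=
    Bound.step (d := 7) hinv h0 Suz.dih Suz.dih_checks rfl (by decide +kernel)
      (hbase_of hinv hw (n := 7) (by decide +kernel)) Suz.dih_derived
  have h2 : Bound g [0, 1, 2, 3] 2160 :=
    Bound.step (d := 7) hinv h1 Suz.low Suz.low_checks rfl (by decide +kernel)
      (hbase_of hinv hw (n := 7) (by decide +kernel)) Suz.low_derived
  have h3 : Bound g [0, 1, 2, 3, 4] 7257600 :=
    Bound.step (d := 7) hinv h2 Cert.j2 Cert.j2_checks rfl (by decide +kernel)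
      (hbase_of hinv hw (n := 7) (by decide +kernel)) Cert.j2_derived
  have h4 : Bound g [0, 1, 2, 3, 4, 5] 3019161600 :=
    Bound.step (d := 7) hinv h3 Cert.g24 Cert.g24_checks rfl (by decide +kernel)
      (hbase_of hinv hw (n := 7) (by decide +kernel)) Cert.g24_derived
  exact Bound.step (d := 7) hinv h4 Cert.top Cert.top_checks rfl (by decide +kernel)
    (hbase_of hinv hw (n := 7) (by decide +kernel)) Cert.top_derived

theorem g_out : ∀ s, 7 ≤ s → Suz.g s = 1 := fun s h => by
  rw [Suz.g, gen, List.getD_eq_default]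
  simpa [Suz.alph] using h

universe u

variable {G : Type u} [Group G] [Finite G]

theorem ev_pair {A B : Type*} [Group A] [Group B] (f : ℕ → A) (g : ℕ → B) (w : List ℕ) :
    ev (fun i => (f i, g i)) w = (ev f w, ev g w) := by
  refine Prod.ext ?_ ?_
  · exact ev_map (MonoidHom.fst A B) _ w
  · exact ev_map (MonoidHom.snd A B) _ w

/-- A group of the order of the Suzuki group with such involutions is isomorphic to it. -/
theorem iso_of_gens {g : ℕ → G} (hG : Nat.card G = 448345497600) (hinv : ∀ s, g s * g s = 1)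
    (hw : ∀ w ∈ relWords, ev g w = 1) (h5 : g 0 * g 1 ≠ 1) (h8 : (g 2 * g 3) ^ 4 ≠ 1) :
    Nonempty (G ≃* Cfsg.Spor.Suz) := by
  haveI := Suz.finite
  haveI := Suz.isSimple
  have hP : Nat.card Cfsg.Spor.Suz = 448345497600 := Suz.card_eq
  let p : ℕ → G × Cfsg.Spor.Suz := fun i => (g i, Suz.g i)
  obtain ⟨-, hS⟩ := bound (g := p) (fun s => Prod.ext (hinv s) (Suz.g_sq s)) fun w h => by
    rw [ev_pair, hw w h, Suz.g_words w (relWords_sub w h)]; rfl
  set S := val p (singles [0, 1, 2, 3, 4, 5, 6]) with hSdef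
  set f : S →* G := (MonoidHom.fst G Cfsg.Spor.Suz).comp S.subtype with hf
  set q : S →* Cfsg.Spor.Suz := (MonoidHom.snd G Cfsg.Spor.Suz).comp S.subtype with hq
  have hmem : ∀ i < 7, p i ∈ S := fun i hi => mem_single (by interval_cases i <;> decide)
  have hqs : Function.Surjective q := by
    rw [← MonoidHom.range_eq_top, ← top_le_iff, ← Suz.g_gen, Subgroup.closure_le]
    rintro _ ⟨i, hi, rfl⟩
    exact ⟨⟨p i, hmem i hi⟩, rfl⟩
  have hqc : Nat.card S = Nat.card q.ker * Nat.card Cfsg.Spor.Suz := by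
    rw [Subgroup.card_eq_card_quotient_mul_card_subgroup q.ker, mul_comm,
      Nat.card_congr (QuotientGroup.quotientKerEquivOfSurjective q hqs).toEquiv]
  have hk : Nat.card q.ker ≤ 12 := by
    rw [hqc, hP] at hS
    omega
  have hfk : f.ker = ⊥ := by
    have hn : (f.ker.map q).Normal := Subgroup.Normal.map inferInstance q hqs
    rcases hn.eq_bot_or_eq_top with e | e
    · rw [eq_bot_iff]
      intro x hx
      have h1 : q x = 1 := by
        have : q x ∈ f.ker.map q := ⟨x, hx, rfl⟩
        rwa [e, Subgroup.mem_bot] at this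
      exact Subtype.ext (Prod.ext hx h1)
    · exfalso
      have hr : (Nat.card f.range) ∣ Nat.card q.ker := by
        have h1 : f.range = q.ker.map f := by
          refine le_antisymm ?_ (MonoidHom.range_eq_map f ▸ Subgroup.map_mono le_top)
          rintro _ ⟨x, rfl⟩
          obtain ⟨y, hy, hxy⟩ : q x ∈ f.ker.map q := e ▸ Subgroup.mem_top _
          refine ⟨x * y⁻¹, ?_, ?_⟩
          · show q (x * y⁻¹) = 1
            rw [map_mul, map_inv, hxy, mul_inv_cancel]
          · rw [map_mul, map_inv, (hy : f y = 1), inv_one, mul_one]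
        rw [h1]
        exact Subgroup.card_map_dvd q.ker f
      have hr' : ∀ i < 7, g i ∈ f.range := fun i hi => ⟨⟨p i, hmem i hi⟩, rfl⟩
      haveI : Fact (Nat.Prime 5) := ⟨by norm_num⟩
      haveI : Fact (Nat.Prime 2) := ⟨Nat.prime_two⟩
      have e5 : orderOf (g 0 * g 1) = 5 := orderOf_eq_prime (by
        simpa [ev, pow_succ, mul_assoc] using hw [0, 1, 0, 1, 0, 1, 0, 1, 0, 1] (by decide)) h5
      have e8 : orderOf (g 2 * g 3) = 8 := by
        refine orderOf_eq_prime_pow (p := 2) (n := 2) h8 ?_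
        simpa [ev, pow_succ, mul_assoc] using
          hw [2, 3, 2, 3, 2, 3, 2, 3, 2, 3, 2, 3, 2, 3, 2, 3] (by decide)
      have d5 := e5 ▸ Subgroup.orderOf_dvd_natCard _ (f.range.mul_mem (hr' 0 (by norm_num)) (hr' 1 (by norm_num)))
      have d8 := e8 ▸ Subgroup.orderOf_dvd_natCard _ (f.range.mul_mem (hr' 2 (by norm_num)) (hr' 3 (by norm_num)))
      have d40 : 40 ∣ Nat.card f.range := Nat.Coprime.mul_dvd_of_dvd_of_dvd (by norm_num : Nat.Coprime 5 8) d5 d8
      have := Nat.le_of_dvd Nat.card_pos (d40.trans hr)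
      omega
  have hfi : Function.Injective f := (MonoidHom.ker_eq_bot_iff f).1 hfk
  have hle : Nat.card S ≤ Nat.card G := Nat.card_le_card_of_injective f hfi
  have hqk : Nat.card q.ker = 1 := by
    have := Nat.card_pos (α := q.ker)
    rw [hqc, hG, hP] at hle
    omega
  have hqi : Function.Injective q := (MonoidHom.ker_eq_bot_iff q).1 (Subgroup.eq_bot_of_card_eq _ hqk)
  have hfb : Function.Bijective f := (Nat.bijective_iff_injective_and_card f).2
    ⟨hfi, by rw [hqc, hqk, one_mul, hP, hG]⟩
  exact ⟨(MulEquiv.ofBijective f hfb).symm.trans (MulEquiv.ofBijective q ⟨hqi, hqs⟩)⟩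

end Cfsg.Agent.Fus.SuzUniq
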