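import Cfsg.Agent.Lib.Fus.SuzUniq.Mat

/-!
# A sixth generator inside `PSL(3,4)`
-/

set_option autoImplicit false
set_option linter.unusedSectionVars false
set_option linter.style.haveILetI false

namespace Cfsg.Agent.Fus.SuzUniq

open Cfsg.Agent.Spor.SU32 Cfsg.Agent.Spor.L34Elem M9

open Cfsg.Agent.Spor.Cos (ev ev_append ev_map ev_reverse)

local notation "S" => Matrix.SpecialLinearGroup (Fin 3) F4
local notation "PS" => Matrix.ProjectiveSpecialLinearGroup (Fin 3) F4

/-- The entries of an element of the special linear group. -/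
def toM (A : S) : M9 := of (A : Matrix (Fin 3) (Fin 3) F4)

theorem toM_mul (A B : S) : toM (A * B) = mul (toM A) (toM B) := by
  rw [toM, Matrix.SpecialLinearGroup.coe_mul, of_mul]; rfl

theorem toM_one : toM (1 : S) = sca 1 := of_one

theorem toM_ev (X : ℕ → S) : ∀ w, toM (ev X w) = evM (fun s => toM (X s)) w
  | [] => toM_one
  | s :: w => by rw [ev, toM_mul, toM_ev X w]; rfl

theorem of_scalar : ∀ c : F4, of (c • (1 : Matrix (Fin 3) (Fin 3) F4)) = sca c := by decide +kernel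

theorem isSc_iff (A : S) : isSc (toM A) = true ↔ π A = 1 := by
  rw [π_eq_one]
  constructor
  · intro h
    simp only [isSc, Bool.or_eq_true, beq_iff_eq] at h
    obtain ⟨c, hc⟩ : ∃ c, toM A = sca c := by
      rcases h with (h | h) | h <;> exact ⟨_, h⟩
    exact center_mem (of_inj (hc.trans (of_scalar c).symm))
  · intro h
    obtain ⟨c, hc, e⟩ := center_scalar h
    rw [toM, e, of_scalar]
    rcases cube_root c hc with rfl | rfl | rfl <;> decide

/-- Involutive lifts are unique. -/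
theorem lift_unique {A B : S} (hA : A * A = 1) (hB : B * B = 1) (h : π A = π B) : A = B := by
  have hm : A * B ∈ Subgroup.center S := π_eq_one.1 (by rw [map_mul, h, ← map_mul, hB, map_one])
  have hsq : (A * B) * (A * B) = 1 := by
    have hc := Subgroup.mem_center_iff.1 hm A
    calc A * B * (A * B) = A * B * A * B := by group
      _ = A * (A * B) * B := by rw [hc]
      _ = (A * A) * (B * B) := by group
      _ = 1 := by rw [hA, hB, one_mul]
  have h3 := center_cube hm
  have h1 : A * B = 1 := by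
    rw [← h3, pow_succ, pow_two, hsq, one_mul]
  calc A = A * (B * B) := by rw [hB, mul_one]
    _ = (A * B) * B := by group
    _ = B := by rw [h1, one_mul]

/-- Involutive lifts of commuting involutions commute. -/
theorem lift_comm {A B : S} (hA : A * A = 1) (hB : B * B = 1) (h : π A * π B = π B * π A) : A * B = B * A := by
  have hBi : B⁻¹ = B := inv_eq_of_mul_eq_one_right hB
  have e : B * A * B⁻¹ = A := lift_unique (by rw [conj_mul, hA, mul_one, mul_inv_cancel]) hA (by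
    rw [map_mul, map_mul, map_inv, ← h, mul_inv_cancel_right])
  calc A * B = B * A * B⁻¹ * B := by rw [e]
    _ = B * A := inv_mul_cancel_right _ _

theorem lift_sq {x : PS} (hx : x * x = 1) : ∃ A : S, π A = x ∧ A * A = 1 := by
  obtain ⟨A, h1, h2⟩ := lift_two (x := x) (by rw [pow_two]; exact hx)
  exact ⟨A, h1, by rwa [pow_two] at h2⟩

theorem mem_invs {A : M9} (h2 : mul A A = sca 1) (hc : mul A Z0 = mul Z0 A) : A ∈ invs := by
  obtain ⟨a, b, c, d, e, f, g, h, i⟩ := A
  have hc' := hc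
  simp only [mul, Z0, mk.injEq, mul_one, mul_zero, one_mul, zero_mul, add_zero, zero_add] at hc'
  obtain ⟨k1, k2, k3, -, -, k6, -, -, -⟩ := hc'
  have u1 : ∀ x y : F4, x = x + y → y = 0 := by decide +kernel
  have u2 : ∀ x y : F4, x + y = y → x = 0 := by decide +kernel
  have u3 : ∀ x y w : F4, x + y = y + w → w = x := by decide +kernel
  obtain rfl := u1 _ _ k1
  obtain rfl := u1 _ _ k2
  obtain rfl := u2 _ _ k6
  obtain rfl := u3 _ _ _ k3
  refine List.mem_filter.2 ⟨?_, by simp [h2]⟩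
  simp only [List.mem_flatMap, List.mem_map]
  exact ⟨_, mem_fs _, _, mem_fs b, _, mem_fs c, _, mem_fs e, _, mem_fs f, rfl⟩

theorem shape1 {A : M9} (h3 : mul A (mul A A) = sca 1) (hz : mul A Z0 = mul F0 A) :
    A.d = 0 ∧ A.e = 0 ∧ A.f = A.a ∧ A.g = 0 ∧ A.a ≠ 0 := by
  obtain ⟨a, b, c, d, e, f, g, h, i⟩ := A
  simp only [mul, Z0, F0, mk.injEq] at hz
  obtain ⟨k1, k2, k3, k4, k5, k6, k7, k8, k9⟩ := hz
  have key : d = 0 ∧ e = 0 ∧ f = a ∧ g = 0 := by
    have t1 : ∀ x y : F4, x * 1 + y * 0 + 0 * 0 = x := by decide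
    have : ∀ a b c d e f g i : F4, a * 1 + b * 0 + c * 0 = 1 * a + 1 * d + 0 * g →
        a * 0 + b * 1 + c * 0 = 1 * b + 1 * e + 0 * 0 →
        a * 1 + b * 0 + c * 1 = 1 * c + 1 * f + 0 * i →
        g * 1 + 0 * 0 + i * 1 = 0 * c + 0 * f + 1 * i →
        d = 0 ∧ e = 0 ∧ f = a ∧ g = 0 := by
      intro a b c d e f g i
      simp only [mul_one, mul_zero, one_mul, zero_mul, add_zero, zero_add]
      revert a b c d e f g i
      decide +kernel
    exact this a b c d e f g i k1 (by simpa using k2) k3 (by simpa using k9)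
  obtain ⟨rfl, rfl, rfl, rfl⟩ := key
  refine ⟨rfl, rfl, rfl, rfl, fun e0 => ?_⟩
  have := congrArg M9.a h3
  simp [mul, sca, show f = 0 from e0] at this

theorem shape2 {A : M9} (h3 : mul A (mul A A) = sca 1) (hz : mul A Z0 = mul G0 A) :
    A.a = 0 ∧ A.g = 0 ∧ A.h = 0 ∧ A.i = A.d ∧ A.d ≠ 0 := by
  obtain ⟨a, b, c, d, e, f, g, h, i⟩ := A
  simp only [mul, Z0, G0, mk.injEq] at hz
  obtain ⟨k1, k2, k3, k4, k5, k6, k7, k8, k9⟩ := hz
  have key : a = 0 ∧ g = 0 ∧ h = 0 ∧ i = d := by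
    have : ∀ a c d e f g h i : F4, a * 1 + 0 * 0 + c * 1 = 1 * c + 0 * f + 0 * i →
        d * 1 + e * 0 + f * 0 = 0 * a + 1 * d + 1 * g →
        d * 0 + e * 1 + f * 0 = 0 * 0 + 1 * e + 1 * h →
        d * 1 + e * 0 + f * 1 = 0 * c + 1 * f + 1 * i →
        a = 0 ∧ g = 0 ∧ h = 0 ∧ i = d := by
      intro a c d e f g h i
      simp only [mul_one, mul_zero, one_mul, zero_mul, add_zero, zero_add]
      revert a c d e f g h i
      decide +kernel
    exact this a c d e f g h i (by simpa using k3) k4 (by simpa using k5) k6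
  obtain ⟨rfl, rfl, rfl, rfl⟩ := key
  refine ⟨rfl, rfl, rfl, rfl, fun e0 => ?_⟩
  have := congrArg M9.i h3
  simp [mul, sca, show i = 0 from e0] at this

theorem evM_congr {x y : ℕ → M9} : ∀ {w : List ℕ}, (∀ s ∈ w, x s = y s) → evM x w = evM y w
  | [], _ => rfl
  | s :: w, h => by
    rw [evM, evM, h s (List.mem_cons_self ..), evM_congr fun t ht => h t (List.mem_cons_of_mem _ ht)]

theorem mem_invW {w : List ℕ} {s : ℕ} (h : s ∈ invW w) : s ∈ w := by
  simp only [invW, List.mem_flatMap, List.mem_reverse] at h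
  obtain ⟨t, ht, hs⟩ := h
  split_ifs at hs <;> simp at hs <;> exact hs ▸ ht

theorem bWords_lt : ∀ w ∈ bWords, ∀ s ∈ w, s < 4 := by decide

theorem dWords_lt : ∀ v ∈ dWords, ∀ s ∈ v, s < 2 := by decide

theorem badW_congr {x y : ℕ → M9} {w : List ℕ} (h : ∀ s ∈ w ++ [0, 1, 5], x s = y s) : badW x w = badW y w := by
  have e : ∀ u : List ℕ, (∀ s ∈ u, s ∈ w ++ [0, 1, 5]) → evM x u = evM y u := fun u hu =>
    evM_congr fun s hs => h s (hu s hs)
  have h1 : evM x (w ++ 5 :: invW w ++ [5]) = evM y (w ++ 5 :: invW w ++ [5]) := e _ fun s hs => by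
    simp only [List.mem_append, List.mem_cons, List.not_mem_nil, or_false] at hs ⊢
    rcases hs with (hs | hs | hs) | hs
    exacts [Or.inl hs, Or.inr (Or.inr (Or.inr hs)), Or.inl (mem_invW hs), Or.inr (Or.inr (Or.inr hs))]
  have h2 : ∀ v ∈ dWords, evM x (w ++ v.reverse) = evM y (w ++ v.reverse) := fun v hv => e _ fun s hs => by
    simp only [List.mem_append, List.mem_reverse] at hs ⊢
    rcases hs with hs | hs
    · exact Or.inl hs
    · have := dWords_lt v hv s hs
      interval_cases s <;> simp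
  unfold badW
  rw [h1, List.all_eq, List.all_eq]
  congr 1
  exact decide_eq_decide.2 (forall₂_congr fun v hv => by rw [h2 v hv])

/-- A scalar of the special linear group. -/
def cS {k : F4} (hk : k ≠ 0) : S :=
  ⟨k • 1, by
    rw [Matrix.det_smul, Matrix.det_one, mul_one, Fintype.card_fin]
    exact cube_of_ne k hk⟩

theorem π_cS {k : F4} (hk : k ≠ 0) : π (cS hk) = 1 := π_eq_one.2 (center_mem rfl)

theorem toM_cS {k : F4} (hk : k ≠ 0) : toM (cS hk) = sca k := of_scalar k

/-- The letters of a configuration. -/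
def xH {H : Type*} (zz f g c y1 y2 : H) : ℕ → H
  | 0 => f
  | 1 => g
  | 2 => y1
  | 3 => y2
  | 4 => c
  | _ => zz

variable {H : Type*} [Group H] {zz f g c y1 y2 : H}

/-- The configuration. -/
structure Cfg (zz f g c y1 y2 : H) : Prop where
  z2 : zz * zz = 1
  z1 : zz ≠ 1
  f2 : f * f = 1
  g2 : g * g = 1
  c2 : c * c = 1
  zf : zz * f = f * zz
  zg : zz * g = g * zz
  zc : zz * c = c * zz
  cf : c * f = f * c
  cg : c * g = g * c
  fg : f * g * (f * g) = zz
  c1 : c ≠ 1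
  cz : c ≠ zz
  y13 : y1 * y1 * y1 = 1
  y1z : y1 * zz * y1⁻¹ = f
  y1f : y1 * f * y1⁻¹ = zz * f
  y23 : y2 * y2 * y2 = 1
  y2z : y2 * zz * y2⁻¹ = g
  y2g : y2 * g * y2⁻¹ = zz * g
  closed : ∀ w : List ℕ, (∀ s ∈ w, s < 4) →
    ev (xH zz f g c y1 y2) w * zz = zz * ev (xH zz f g c y1 y2) w →
    ∃ v ∈ dWords, ev (xH zz f g c y1 y2) w = ev (xH zz f g c y1 y2) v
  seven : ∀ w : List ℕ, (∀ s ∈ w, s < 4) → ev (xH zz f g c y1 y2) w ^ 7 = 1 →
    ev (xH zz f g c y1 y2) w = 1

/-- The conclusion. -/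
def Found (zz f g c y1 y2 : H) : Prop :=
  ∃ w : List ℕ, (∀ s ∈ w, s < 4) ∧ zz * ev (xH zz f g c y1 y2) w ≠ 1 ∧
    ∀ r ∈ relB, ev (withB (xH zz f g c y1 y2) (ev (xH zz f g c y1 y2) w)) r = 1

theorem ev_invW (C : Cfg zz f g c y1 y2) : ∀ w : List ℕ, (∀ s ∈ w, s < 4) →
    ev (xH zz f g c y1 y2) (invW w) = (ev (xH zz f g c y1 y2) w)⁻¹
  | [], _ => by simp [invW, ev]
  | s :: w, h => by
    have e : invW (s :: w) = invW w ++ if s < 2 then [s] else [s, s] := by simp [invW]
    rw [e, ev_append, ev_invW C w fun t ht => h t (List.mem_cons_of_mem _ ht), ev, mul_inv_rev]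
    congr 1
    have hs := h s (List.mem_cons_self ..)
    interval_cases s <;> simp only [ev, xH, if_true, if_false, mul_one, Nat.reduceLT]
    · exact (inv_eq_of_mul_eq_one_right C.f2).symm
    · exact (inv_eq_of_mul_eq_one_right C.g2).symm
    · exact (inv_eq_of_mul_eq_one_right (by rw [← mul_assoc]; exact C.y13)).symm
    · exact (inv_eq_of_mul_eq_one_right (by rw [← mul_assoc]; exact C.y23)).symm

theorem of_normal (e : H ≃* PS) (C : Cfg zz f g c y1 y2) (hz : e zz = π tS) {Fl Gl : S}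
    (hF : π Fl = e f) (hF2 : Fl * Fl = 1) (hG : π Gl = e g) (hG2 : Gl * Gl = 1) {P Q : M9}
    (hPQ : mul P Q = sca 1) (hQP : mul Q P = sca 1) (hPz : cj P Q Z0 = Z0)
    (hPF : cj P Q (toM Fl) = F0) (hPG : cj P Q (toM Gl) = G0) : Found zz f g c y1 y2 := by
  set N : S → M9 := fun A => cj P Q (toM A) with hN
  have Nmul : ∀ A B, N (A * B) = mul (N A) (N B) := fun A B => by simp only [N, toM_mul, cj_mul hQP]
  have None' : N 1 = sca 1 := by simp only [N, toM_one, cj_sca hPQ]
  have hT : N tS = Z0 := by rw [hN]; simp only; rw [show toM tS = Z0 by decide +kernel, hPz]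
  have hT2 : tS * tS = 1 := Subtype.ext (by decide +kernel)
  -- the third involution
  obtain ⟨Cl, hC, hC2⟩ := lift_sq (x := e c) (by rw [← map_mul, C.c2, map_one])
  have hcT : Cl * tS = tS * Cl := lift_comm hC2 hT2 (by rw [hC, ← hz, ← map_mul, ← map_mul, C.zc])
  have hcF : Cl * Fl = Fl * Cl := lift_comm hC2 hF2 (by rw [hC, hF, ← map_mul, ← map_mul, C.cf])
  have hcG : Cl * Gl = Gl * Cl := lift_comm hC2 hG2 (by rw [hC, hG, ← map_mul, ← map_mul, C.cg])
  have hNF : N Fl = F0 := hPF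
  have hNG : N Gl = G0 := hPG
  have hsc : ∀ A : S, isSc (N A) = true → π A = 1 := fun A h => by
    refine (isSc_iff A).1 ?_
    simp only [isSc, Bool.or_eq_true, beq_iff_eq] at h ⊢
    have back : ∀ k, N A = sca k → toM A = sca k := fun k hk => by
      rw [← cj_cancel hQP (toM A), show cj P Q (toM A) = sca k from hk, cj_sca hQP]
    rcases h with (h | h) | h
    exacts [Or.inl (Or.inl (back _ h)), Or.inl (Or.inr (back _ h)), Or.inr (back _ h)]
  have hsc' : ∀ A : S, π A = 1 → isSc (N A) = true := fun A h => by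
    have h1 := (isSc_iff A).2 h
    simp only [isSc, Bool.or_eq_true, beq_iff_eq] at h1 ⊢
    rcases h1 with (h1 | h1) | h1
    exacts [Or.inl (Or.inl (by simp only [N, h1, cj_sca hPQ])), Or.inl (Or.inr (by simp only [N, h1, cj_sca hPQ])),
      Or.inr (by simp only [N, h1, cj_sca hPQ])]
  have hCc : N Cl ∈ cand := by
    refine List.mem_filter.2 ⟨mem_invs (by rw [← Nmul, hC2, None']) (by rw [← hT, ← Nmul, ← Nmul, hcT]), ?_⟩
    simp only [Bool.and_eq_true, beq_iff_eq, Bool.not_eq_true']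
    refine ⟨⟨⟨by rw [← hNF, ← Nmul, ← Nmul, hcF], by rw [← hNG, ← Nmul, ← Nmul, hcG]⟩, ?_⟩, ?_⟩
    · refine Bool.eq_false_iff.2 fun h => C.c1 (e.injective ?_)
      rw [← hC, hsc _ h, map_one]
    · refine Bool.eq_false_iff.2 fun h => C.cz (e.injective ?_)
      have h2 : π Cl * π tS = 1 := by
        rw [← map_mul]; exact hsc _ (by rwa [Nmul, hT])
      rw [← hC, hz, eq_inv_of_mul_eq_one_left h2, ← map_inv, inv_eq_of_mul_eq_one_right hT2]
  -- the turning elements
  have turn : ∀ {y v : H} {Vl : S}, y * y * y = 1 → y * zz * y⁻¹ = v → y * v * y⁻¹ = zz * v → π Vl = e v →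
      Vl * Vl = 1 → tS * Vl = Vl * tS → ∀ Y : S, π Y = e y →
        mul (N Y) (mul (N Y) (N Y)) = sca 1 ∧ mul (N Y) Z0 = mul (N Vl) (N Y) ∧
        mul (N Y) (N Vl) = mul (mul Z0 (N Vl)) (N Y) := by
    intro y v Vl h3 hyz hyv hVl hV2 hTV Y hY
    have hY3 : Y ^ 3 = 1 := lift_three (by
      rw [show π Y = e y from hY, ← map_pow, pow_succ, pow_two, h3, map_one])
    have e1 : Y * tS * Y⁻¹ = Vl := lift_unique (by rw [conj_mul, hT2, mul_one, mul_inv_cancel]) hV2 (by
      rw [map_mul, map_mul, map_inv, show π Y = e y from hY, ← hz, hVl, ← map_inv, ← map_mul, ← map_mul, hyz])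
    have e2 : Y * Vl * Y⁻¹ = tS * Vl := lift_unique (by rw [conj_mul, hV2, mul_one, mul_inv_cancel])
      (by rw [mul_assoc, ← mul_assoc Vl, ← hTV, mul_assoc tS Vl, hV2, mul_one, hT2]) (by
      rw [map_mul, map_mul, map_inv, show π Y = e y from hY, hVl, map_mul, ← hz, hVl, ← map_inv, ← map_mul,
        ← map_mul, ← map_mul, hyv])
    refine ⟨?_, ?_, ?_⟩
    · rw [← Nmul, ← Nmul, ← None', ← mul_assoc, ← pow_two, ← pow_succ, hY3]
    · rw [← hT, ← Nmul, ← Nmul, ← e1, inv_mul_cancel_right]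
    · rw [← hT, ← Nmul, ← Nmul, ← Nmul, ← e2, inv_mul_cancel_right]
  have hzF : tS * Fl = Fl * tS := lift_comm hT2 hF2 (by rw [hF, ← hz, ← map_mul, ← map_mul, C.zf])
  have hzG : tS * Gl = Gl * tS := lift_comm hT2 hG2 (by rw [hG, ← hz, ← map_mul, ← map_mul, C.zg])
  have scale : ∀ {Y : S} {k : F4} (hk : k ≠ 0), π (Y * cS hk) = π Y ∧ N (Y * cS hk) = mul (N Y) (sca k) :=
    fun hk => ⟨by rw [map_mul, π_cS, mul_one], by rw [Nmul]; simp only [N, toM_cS, cj_sca hPQ]⟩
  obtain ⟨Y0, hY0⟩ := QuotientGroup.mk'_surjective _ (e y1)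
  obtain ⟨s1, s2, -⟩ := turn C.y13 C.y1z C.y1f hF hF2 hzF Y0 hY0
  rw [hNF] at s2
  obtain ⟨-, -, -, -, ha⟩ := shape1 s1 s2
  obtain ⟨hYπ, hYN⟩ := scale (Y := Y0) (inv_ne_zero ha)
  set Y1 := Y0 * cS (inv_ne_zero ha)
  obtain ⟨t1, t2, t3⟩ := turn C.y13 C.y1z C.y1f hF hF2 hzF Y1 (hYπ.trans hY0)
  rw [hNF] at t2 t3
  obtain ⟨d1, e1, f1, g1, -⟩ := shape1 t1 t2
  have a1 : (N Y1).a = 1 := by
    rw [hYN]
    simp [mul, sca, mul_inv_cancel₀ ha]
  have hA : N Y1 ∈ turn1 := by
    refine List.mem_filter.2 ⟨?_, by simp only [t1, t2, t3, beq_self_eq_true, Bool.and_self]⟩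
    simp only [List.mem_flatMap, List.mem_map]
    refine ⟨_, mem_fs (N Y1).b, _, mem_fs (N Y1).c, _, mem_fs (N Y1).h, _, mem_fs (N Y1).i, ?_⟩
    rw [a1] at f1
    generalize N Y1 = A at *
    obtain ⟨a, b, cc, d, ee, ff, gg, hh, ii⟩ := A
    simp only at d1 e1 f1 g1 a1 ⊢
    rw [d1, e1, f1, g1, a1]
  obtain ⟨Y0', hY0'⟩ := QuotientGroup.mk'_surjective _ (e y2)
  obtain ⟨s1', s2', -⟩ := turn C.y23 C.y2z C.y2g hG hG2 hzG Y0' hY0'
  rw [hNG] at s2'
  obtain ⟨-, -, -, -, hd⟩ := shape2 s1' s2'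
  obtain ⟨hY2π, hY2N⟩ := scale (Y := Y0') (inv_ne_zero hd)
  set Y2 := Y0' * cS (inv_ne_zero hd)
  obtain ⟨u1, u2, u3⟩ := turn C.y23 C.y2z C.y2g hG hG2 hzG Y2 (hY2π.trans hY0')
  rw [hNG] at u2 u3
  obtain ⟨a2, g2, h2, i2, -⟩ := shape2 u1 u2
  have d2 : (N Y2).d = 1 := by
    rw [hY2N]
    simp [mul, sca, mul_inv_cancel₀ hd]
  have hB : N Y2 ∈ turn2 := by
    refine List.mem_filter.2 ⟨?_, by simp only [u1, u2, u3, beq_self_eq_true, Bool.and_self]⟩
    simp only [List.mem_flatMap, List.mem_map]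
    refine ⟨_, mem_fs (N Y2).b, _, mem_fs (N Y2).c, _, mem_fs (N Y2).e, _, mem_fs (N Y2).f, ?_⟩
    rw [d2] at i2
    generalize N Y2 = A at *
    obtain ⟨a, b, cc, d, ee, ff, gg, hh, ii⟩ := A
    simp only at a2 g2 h2 i2 d2 ⊢
    rw [a2, g2, h2, i2, d2]
  -- evaluation
  set X : ℕ → S := fun n => xH tS Fl Gl Cl Y1 Y2 n with hXdef
  set x := xH zz f g c y1 y2
  set xm := xM (N Y1) (N Y2) (N Cl) with hxm
  have hX : ∀ s, π (X s) = e (x s) := fun s =>
    match s with
    | 0 => hF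
    | 1 => hG
    | 2 => hYπ.trans hY0
    | 3 => hY2π.trans hY0'
    | 4 => hC
    | _ + 5 => hz.symm
  have hXm : (fun s => N (X s)) = xm := funext fun s =>
    match s with
    | 0 => hNF
    | 1 => hNG
    | 2 => rfl
    | 3 => rfl
    | 4 => rfl
    | _ + 5 => hT
  have key : ∀ (X' : ℕ → S) (x' : ℕ → H), (∀ s, π (X' s) = e (x' s)) → ∀ w,
      (isSc (evM (fun s => N (X' s)) w) = true ↔ ev x' w = 1) := by
    intro X' x' h' w
    have hπ : π (ev X' w) = e (ev x' w) := by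
      rw [ev_map π, show e (ev x' w) = e.toMonoidHom (ev x' w) from rfl, ev_map e.toMonoidHom]
      exact congrArg (fun φ => ev φ w) (funext h')
    rw [show evM (fun s => N (X' s)) w = N (ev X' w) by simp only [N, toM_ev, cj_evM hPQ hQP]]
    refine ⟨fun h => e.injective ?_, fun h => hsc' _ ?_⟩
    · rw [← hπ, hsc _ h, map_one]
    · rw [hπ, h, map_one]
  have keyx : ∀ w, (isSc (evM xm w) = true ↔ ev x w = 1) := fun w => by rw [← hXm]; exact key X x hX w
  have keyf : ∀ w, isSc (evM xm w) = false → ev x w ≠ 1 := fun w h e' => by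
    rw [(keyx w).2 e'] at h; exact Bool.noConfusion h
  -- the first kind of contradiction
  have hbad : ∀ w, (∀ s ∈ w, s < 4) → badW xm w = true → False := by
    intro w hw h
    simp only [badW, Bool.and_eq_true, List.all_eq_true, Bool.not_eq_true'] at h
    have h1 := (keyx _).1 h.1
    rw [ev_append, ev_append, ev, ev_invW C w hw] at h1
    have h1' : ev x w * zz * (ev x w)⁻¹ * zz = 1 := by simpa [ev, x, xH, mul_assoc] using h1
    have hc : ev x w * zz = zz * ev x w := by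
      have h2 := eq_inv_of_mul_eq_one_left h1'
      rw [inv_eq_of_mul_eq_one_right C.z2] at h2
      exact mul_inv_eq_iff_eq_mul.1 h2
    obtain ⟨v, hv, he⟩ := C.closed w hw hc
    refine keyf _ (h.2 v hv) ?_
    have hv2 := dWords_lt v hv
    rw [ev_append, ev_reverse (n := 2) (fun s hs => by interval_cases s; exacts [C.f2, C.g2]) v hv2]
    rw [show ev x w = ev x v from he, mul_inv_cancel]
  have hchk := core_ok
  simp only [List.all_eq_true, Bool.or_eq_true] at hchk
  rcases hchk _ hA with h | h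
  · refine (hbad [2, 1, 2] (by simp) ?_).elim
    rw [← h]
    exact badW_congr fun s hs => by fin_cases hs <;> rfl
  rcases h _ hB with h | h
  · refine (hbad [3, 0, 3] (by simp) ?_).elim
    rw [← h]
    exact badW_congr fun s hs => by fin_cases hs <;> rfl
  rcases h _ hCc with (h | h) | h
  · exfalso
    simp only [sevenW, Bool.and_eq_true, Bool.not_eq_true'] at h
    refine keyf _ h.1 (C.seven _ (by simp) ?_)
    rw [← Spor.Cos.ev_power]
    exact (keyx _).1 h.2
  · exfalso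
    simp only [sevenW, Bool.and_eq_true, Bool.not_eq_true'] at h
    refine keyf _ h.1 (C.seven _ (by simp) ?_)
    rw [← Spor.Cos.ev_power]
    exact (keyx _).1 h.2
  · rw [List.any_eq_true] at h
    obtain ⟨w, hw, hg⟩ := h
    simp only [goodW, Bool.and_eq_true, Bool.not_eq_true', List.all_eq_true] at hg
    have hw4 := bWords_lt w hw
    refine ⟨w, hw4, fun h1 => keyf _ hg.1 (by simpa [ev, x, xH] using h1), fun r hr => ?_⟩
    refine (key (withB X (ev X w)) (withB x (ev x w)) (fun s => ?_) r).1 ?_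
    · unfold withB
      split_ifs
      · rw [ev_map π, show e (ev x w) = e.toMonoidHom (ev x w) from rfl, ev_map e.toMonoidHom]
        exact congrArg (fun φ => ev φ w) (funext hX)
      · exact hX s
    · have e6 : (fun s => N (withB X (ev X w) s)) = withB xm (evM xm w) := funext fun s => by
        unfold withB
        split_ifs
        · rw [← hXm]; simp only [N, toM_ev, cj_evM hPQ hQP]
        · exact congrFun hXm s
      rw [e6]
      exact hg.2 r hr

/-- Exchanging the two sides. -/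
def swapL : ℕ → ℕ
  | 0 => 1
  | 1 => 0
  | 2 => 3
  | 3 => 2
  | n => n

theorem swap_swap : ∀ n, swapL (swapL n) = n
  | 0 | 1 | 2 | 3 => rfl
  | _ + 4 => rfl

theorem dWords_swap : ∀ v ∈ dWords, v ≠ [0, 1, 0, 1] → v.map swapL ∈ dWords := by decide

theorem relB_swap : ∀ r ∈ relB, r.map swapL ∈ relB := by decide

theorem ev_map_letters {x : ℕ → H} (σ : ℕ → ℕ) : ∀ w : List ℕ, ev (fun s => x (σ s)) w = ev x (w.map σ)
  | [] => rfl
  | s :: w => by rw [List.map_cons, ev, ev, ev_map_letters σ w]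

theorem xH_swap : xH zz g f c y2 y1 = fun s => xH zz f g c y1 y2 (swapL s) := funext fun s =>
  match s with
  | 0 | 1 | 2 | 3 | 4 => rfl
  | _ + 5 => rfl

theorem Cfg.swap (C : Cfg zz f g c y1 y2) : Cfg zz g f c y2 y1 := by
  have hgf : g * f * (g * f) = zz := by
    calc g * f * (g * f) = f⁻¹ * (f * g * (f * g)) * f := by group
      _ = zz := by rw [C.fg, mul_assoc, C.zf, inv_mul_cancel_left]
  have hlt : ∀ w : List ℕ, (∀ s ∈ w, s < 4) → ∀ s ∈ w.map swapL, s < 4 := fun w hw s hs => by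
    obtain ⟨t, ht, rfl⟩ := List.mem_map.1 hs
    have := hw t ht
    interval_cases t <;> decide
  refine ⟨C.z2, C.z1, C.g2, C.f2, C.c2, C.zg, C.zf, C.zc, C.cg, C.cf, hgf, C.c1, C.cz, C.y23, C.y2z, C.y2g,
    C.y13, C.y1z, C.y1f, fun w hw h => ?_, fun w hw h => ?_⟩
  · rw [xH_swap, ev_map_letters] at h ⊢
    obtain ⟨v, hv, e⟩ := C.closed _ (hlt w hw) h
    by_cases hv' : v = [0, 1, 0, 1]
    · refine ⟨[0, 1, 0, 1], by decide, ?_⟩
      rw [e, hv', ev_map_letters]
      simp only [ev, List.map, swapL, xH, mul_one]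
      rw [← mul_assoc f g, C.fg, ← mul_assoc g f, hgf]
    · refine ⟨v.map swapL, dWords_swap v hv hv', ?_⟩
      rw [e, ev_map_letters (x := xH zz f g c y1 y2) swapL, List.map_map, show swapL ∘ swapL = id from funext swap_swap, List.map_id]
  · rw [xH_swap, ev_map_letters] at h ⊢
    exact C.seven _ (hlt w hw) h

theorem Found.swap (h : Found zz g f c y2 y1) : Found zz f g c y1 y2 := by
  obtain ⟨w, hw, h1, h2⟩ := h
  rw [xH_swap, ev_map_letters] at h1 h2
  refine ⟨w.map swapL, fun s hs => ?_, h1, fun r hr => ?_⟩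
  · obtain ⟨t, ht, rfl⟩ := List.mem_map.1 hs
    have := hw t ht
    interval_cases t <;> decide
  · have := h2 (r.map swapL) (relB_swap r hr)
    rw [show withB (fun s => xH zz f g c y1 y2 (swapL s)) (ev (xH zz f g c y1 y2) (w.map swapL)) =
      fun s => withB (xH zz f g c y1 y2) (ev (xH zz f g c y1 y2) (w.map swapL)) (swapL s) from funext fun s =>
        match s with
        | 0 | 1 | 2 | 3 | 4 | 5 | 6 => rfl
        | _ + 7 => rfl, ev_map_letters, List.map_map] at this
    rwa [show swapL ∘ swapL = id from funext swap_swap, List.map_id] at this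

/-- Some word in the turning elements and the dihedral group is the element sought. -/
theorem found (e : H ≃* PS) (C : Cfg zz f g c y1 y2) : Found zz f g c y1 y2 := by
  obtain ⟨A, hA, hA2⟩ := lift_sq (x := e zz) (by rw [← map_mul, C.z2, map_one])
  obtain ⟨h, hh⟩ := isConj_iff.1 (conj_two (A := A) (by rw [pow_two]; exact hA2) fun e0 => C.z1 (e.injective (by
    rw [← hA, e0, map_one, map_one])))
  set e' := e.trans (MulAut.conj (π h)⁻¹)
  have hz : e' zz = π tS := by
    show (π h)⁻¹ * e zz * (π h)⁻¹⁻¹ = π tS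
    rw [← hA, ← hh, map_mul, map_mul, map_inv]; group
  obtain ⟨Fl, hF, hF2⟩ := lift_sq (x := e' f) (by rw [← map_mul, C.f2, map_one])
  obtain ⟨Gl, hG, hG2⟩ := lift_sq (x := e' g) (by rw [← map_mul, C.g2, map_one])
  have hT2 : tS * tS = 1 := Subtype.ext (by decide +kernel)
  have hTm : toM tS = Z0 := by decide +kernel
  have mem : ∀ {Al : S} {u : H}, π Al = e' u → Al * Al = 1 → zz * u = u * zz → toM Al ∈ invs := by
    intro Al u hu h2 hc
    refine mem_invs (by rw [← toM_mul, h2, toM_one]) ?_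
    rw [← hTm, ← toM_mul, ← toM_mul, lift_comm h2 hT2 (by rw [hu, ← hz, ← map_mul, ← map_mul, hc])]
  have hn := norm_ok
  simp only [List.all_eq_true, Bool.or_eq_true, List.any_eq_true, Bool.and_eq_true, beq_iff_eq,
    Bool.not_eq_true'] at hn
  rcases hn _ (mem hF hF2 C.zf) _ (mem hG hG2 C.zg) with h' | ⟨p, hp, h'⟩
  · exfalso
    have : π (Fl * Gl * (Fl * Gl) * tS) = 1 := by
      rw [map_mul, map_mul, map_mul, hF, hG, ← hz, ← map_mul, ← map_mul, ← map_mul, C.fg, C.z2, map_one]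
    have h1 := (isSc_iff _).2 this
    rw [toM_mul, toM_mul, toM_mul, hTm] at h1
    rw [h1] at h'
    exact Bool.noConfusion h'
  have hb := bases_ok
  simp only [List.all_eq_true, Bool.and_eq_true, beq_iff_eq] at hb
  obtain ⟨⟨hPQ, hQP⟩, hPz⟩ := hb p hp
  rcases h' with ⟨h1, h2⟩ | ⟨h1, h2⟩
  · exact of_normal e' C hz hF hF2 hG hG2 hPQ hQP hPz h1 h2
  · exact (of_normal e' C.swap hz hG hG2 hF hF2 hPQ hQP hPz h1 h2).swap

end Cfsg.Agent.Fus.SuzUniq
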