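import Cfsg.Agent.Lib.Fus.SuzUniq.Turn
import Cfsg.Agent.Lib.Fus.SuzUniq.Psl
import Cfsg.Agent.Lib.Fus.SuzUniq.Iso
import Cfsg.Agent.Lib.Invol.Suz.Loc.Seven

/-!
# The generators in a group of Suzuki type
-/

set_option autoImplicit false
set_option linter.unusedSectionVars false
set_option linter.style.haveILetI false
set_option maxRecDepth 100000

namespace Cfsg.Agent.Fus.SuzUniq

open Cfsg Cfsg.Agent.Classical.BinCoc Cfsg.Agent.Invol.Big Cfsg.Agent.Invol.Big.Code Cfsg.Agent.Invol.Suz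
  Cfsg.Agent.Invol.Suz.Loc

variable {G : Type*} [Group G] [Finite G] {z : G} {Q : Subgroup G} {cd : G → ℕ} {S : Setting z Q cd} {g : ℕ → G}

theorem a4_cube : ∀ a b : alternatingGroup (Fin 4), a * a = 1 → b * b = 1 → a * b * (a * b) * (a * b) = 1 →
    a * b = 1 := by decide +kernel

theorem hat_cert : chkSq hd 0 (2, [5, 49], 5) = true ∧
    cmp K6 (cmp K6 hd fT) (cmp K6 (cmp K6 hd fT) (cmp K6 hd fT)) = idH K6 ∧
    ap K6 hd 74 = 74 ∧ ap K6 hd 93 = 93 ∧ (hd == fT) = false ∧
    mulP K6 74 22 = 93 ∧ mulP K6 (mulP K6 54 (ap K6 hd 54)) (mulP K6 54 (ap K6 hd 54)) = 1 := by decide +kernel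

/-- The codes of the elements of `U` commuting with the involution lie in the dihedral group. -/
theorem closed_codes : ((List.range 64).all fun i =>
    !(cmp K6 (hatM (8 * i)) hd == cmp K6 hd (hatM (8 * i))) ||
      [0, 32, 64, 96, 256, 288, 320, 352].contains (8 * i)) = true := by decide +kernel

theorem code_facts : mulM 32 32 = 0 ∧ mulM 96 96 = 0 ∧ mulM 128 128 = 0 ∧ mulM 128 32 = mulM 32 128 ∧
    mulM 128 96 = mulM 96 128 ∧ mulM (mulM 32 96) (mulM 32 96) = 256 ∧ mulM 96 32 = mulM (mulM 256 32) 96 ∧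
    mulM 32 96 = mulM (mulM 256 96) 32 := by decide +kernel

/-- The code of a word in the two generators of the dihedral group. -/
def codeW (v : List ℕ) : ℕ := v.foldr (fun s a => mulM (if s = 0 then 32 else 96) a) 0

theorem codeW_cover : ([0, 32, 64, 96, 256, 288, 320, 352] : List ℕ).all (fun a => dWords.any fun v => codeW v == a) = true := by
  decide +kernel

theorem cov_f : covers K6 ((gensV (74 / 2)).map Prod.fst) = true := by decide +kernel

theorem cov_g : covers K6 ((gensV (93 / 2)).map Prod.fst) = true := by decide +kernel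

/-- An involution of `C(z)` centralizing the dihedral group. -/
theorem exists_d (M : Mdl S g) : ∃ d, IsHat S.code d hd ∧ InS z (g 2) (el S.code 74) d ∧
    InS z (g 2) (el S.code 93) d := by
  obtain ⟨h1, h2, h3, h4, h5, -⟩ := hat_cert
  obtain ⟨d, hd0, hsq⟩ := Setting.exists_cert S h1
  rw [pow_zero] at hsq
  have hne : ∀ x, IsHat S.code x SuzUniq.hd → x ≠ g 2 := fun x hx e => by
    have := hx.ext_eq ((M.hat 2).ext_hat (show gH 2 = fT from rfl) |> fun H => e ▸ H)
    rw [this] at h5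
    simp at h5
  have K := hd0.mul ((M.hat 2).ext_hat (show gH 2 = fT from rfl))
  have htz : g 2 * z = z * g 2 := (M.hat 2).comm
  have hin : ∀ x, IsHat S.code x SuzUniq.hd → x * x = 1 → x * g 2 * (x * g 2) * (x * g 2) = 1 →
      InS z (g 2) (el S.code 74) x ∧ InS z (g 2) (el S.code 93) x := fun x hx hx2 hx3 =>
    ⟨⟨hx.comm, hx.comm_el h3, hx2, hx3, hne x hx⟩, ⟨hx.comm, hx.comm_el h4, hx2, hx3, hne x hx⟩⟩
  rcases (isHat_one S.code).cancel ((K.mul (K.mul K)).ext_hat h2) with e | e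
  · rw [← mul_assoc (d * g 2)] at e
    exact ⟨d, hd0, hin d hd0 hsq e⟩
  · refine ⟨d * z, hd0.mul_z, hin _ hd0.mul_z ?_ ?_⟩
    · calc d * z * (d * z) = d * (z * d) * z := by group
        _ = (d * d) * (z * z) := by rw [← hd0.comm]; group
        _ = 1 := by rw [hsq, S.code.ext.zz, one_mul]
    · rw [one_mul, ← mul_assoc (d * g 2)] at e
      have hc : d * g 2 * z = z * (d * g 2) := comm_mul hd0.comm htz
      rw [show d * z * g 2 = d * g 2 * z by rw [mul_assoc, ← htz, mul_assoc]]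
      calc d * g 2 * z * (d * g 2 * z) * (d * g 2 * z)
          = d * g 2 * (z * (d * g 2)) * z * (d * g 2 * z) := by group
        _ = d * g 2 * (d * g 2) * (z * z) * (d * g 2 * z) := by rw [← hc]; group
        _ = d * g 2 * (d * g 2) * (d * g 2) * z := by rw [S.code.ext.zz]; group
        _ = 1 := by rw [e, S.code.ext.zz]

/-- An element of order seven of `C(t)` does not centralize the involution. -/
theorem not_seven (M : Mdl S g) {d x : G} (hd : InS z (g 2) (el S.code 74) d) (hxt : x * g 2 = g 2 * x)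
    (hxd : x * d = d * x) (h7 : x ^ 7 = 1) : x = 1 := by
  by_contra h1
  haveI : Fact (Nat.Prime 7) := ⟨by norm_num⟩
  have hx : orderOf x = 7 := orderOf_eq_prime h7 h1
  obtain ⟨-, -, ⟨e⟩⟩ := M.seven_local hx
  set tt : Cx x := ⟨g 2, mem_Cx.2 hxt.symm⟩
  set dd : Cx x := ⟨d, mem_Cx.2 hxd.symm⟩
  have ht2 : tt * tt = 1 := Subtype.ext M.g2_sq
  have hd2 : dd * dd = 1 := Subtype.ext hd.sq
  have h3 : dd * tt * (dd * tt) * (dd * tt) = 1 := Subtype.ext hd.cube
  set φ : Cx x →* alternatingGroup (Fin 4) := e.toMonoidHom.comp (QuotientGroup.mk' (Cn x))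
  have := a4_cube (φ dd) (φ tt) (by rw [← map_mul, hd2, map_one]) (by rw [← map_mul, ht2, map_one])
    (by rw [← map_mul, ← map_mul, ← map_mul, h3, map_one])
  rw [← map_mul] at this
  have hm : dd * tt ∈ Cn x := (QuotientGroup.eq_one_iff _).1 (e.injective (by rw [map_one]; exact this))
  have ho : orderOf (dd * tt) ∣ 7 := by
    rw [← hx, ← card_Cn (x := x)]; exact Subgroup.orderOf_dvd_natCard _ hm
  have ho3 : orderOf (dd * tt) ∣ 3 := orderOf_dvd_of_pow_eq_one (by rw [pow_succ, pow_two, h3])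
  have hone := orderOf_eq_one_iff.1 (Nat.eq_one_of_dvd_coprimes (by norm_num) ho ho3)
  refine hd.ne ?_
  have h' : d * g 2 = 1 := congrArg Subtype.val hone
  rw [eq_inv_of_mul_eq_one_left h', inv_eq_of_mul_eq_one_right M.g2_sq]

/-- The seven generators exist. -/
theorem exists_gens (M : Mdl S g) : ∃ σ : ℕ → G, (∀ s, σ s * σ s = 1) ∧
    (∀ w ∈ relWords, Spor.Cos.ev σ w = 1) ∧ σ 0 * σ 1 ≠ 1 ∧ (σ 2 * σ 3) ^ 4 ≠ 1 := by
  obtain ⟨-, -, -, -, -, h93, hcd⟩ := hat_cert
  obtain ⟨c32, c96, c128, c13, c19, c39, c93, c33⟩ := code_facts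
  obtain ⟨d, hdh, hdf, hdg⟩ := exists_d M
  set f := Loc.ev g 32 with hf
  set gg := Loc.ev g 96 with hgg
  set c := Loc.ev g 128 with hc
  have hz6 : Loc.ev g 256 = z := M.z_eq
  have efe : f = el S.code 74 := by
    rw [hf, show (32 : ℕ) = 2 ^ 5 by norm_num, ev_pow (by norm_num), M.qg 5 le_rfl (by norm_num)]; rfl
  have egg : gg = el S.code 93 := by
    rw [hgg, Loc.ev, show decW 96 = [5, 6] by decide +kernel]
    simp only [List.map_cons, List.map_nil, List.prod_cons, List.prod_nil, mul_one]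
    rw [M.qg 5 le_rfl (by norm_num), M.qg 6 (by norm_num) (by norm_num),
      show qel 5 = 74 from rfl, show qel 6 = 22 from rfl, el_mul, h93]
  have ece : c = el S.code 54 := by
    rw [hc, show (128 : ℕ) = 2 ^ 7 by norm_num, ev_pow (by norm_num), M.qg 7 (by norm_num) (by norm_num)]; rfl
  have hmul : ∀ {a b : ℕ}, b < 512 → Loc.ev g a * Loc.ev g b = Loc.ev g (mulM a b) := fun hb => M.ev_mul _ hb
  have f2 : f * f = 1 := by rw [hf, hmul (by norm_num), c32, Loc.ev_zero]
  have g2' : gg * gg = 1 := by rw [hgg, hmul (by norm_num), c96, Loc.ev_zero]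
  have c2 : c * c = 1 := by rw [hc, hmul (by norm_num), c128, Loc.ev_zero]
  have hfg : f * gg * (f * gg) = z := by
    rw [hf, hgg, hmul (by norm_num), hmul (M.mulM_spec _ (by norm_num)).1, c39, hz6]
  have hAf : IsConj z f := (M.mem_aList (by norm_num)).1 (by decide)
  have hAg : IsConj z gg := (M.mem_aList (by norm_num)).1 (by decide)
  have hne : ∀ {a : ℕ}, a < 512 → a ≠ 256 → Loc.ev g a ≠ z := fun ha h e =>
    h (M.ev_inj ha (by norm_num) (e.trans hz6.symm))
  have sw1 : gg * f * gg⁻¹ = z * f := by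
    rw [mul_inv_eq_iff_eq_mul, hf, hgg, ← hz6, hmul (by norm_num), hmul (by norm_num), hmul (by norm_num), c93]
  have sw2 : f * gg * f⁻¹ = z * gg := by
    rw [mul_inv_eq_iff_eq_mul, hf, hgg, ← hz6, hmul (by norm_num), hmul (by norm_num), hmul (by norm_num), c33]
  obtain ⟨y1, hy1L, hy13, hy1z, hy1f, hy1d⟩ := exists_turn M (fc := 32) (sw := 96) (c := 74) (by norm_num)
    (by norm_num) (by norm_num) (by norm_num) (by norm_num) efe hAf (hne (by norm_num) (by norm_num)) sw1 cov_f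
    cands_f orb_f reps_f hdh hdf
  obtain ⟨y2, hy2L, hy23, hy2z, hy2g, hy2d⟩ := exists_turn M (fc := 96) (sw := 32) (c := 93) (by norm_num)
    (by norm_num) (by norm_num) (by norm_num) (by norm_num) egg hAg (hne (by norm_num) (by norm_num)) sw2 cov_g
    cands_g orb_g reps_g hdh hdg
  have inU : ∀ {a : ℕ}, a < 512 → a % 8 = 0 → Loc.ev g a ∈ M.L := fun ha h => M.U_le_L ((M.ev_mem_U ha).2 h)
  have hfL : f ∈ M.L := inU (by norm_num) (by norm_num)
  have hgL : gg ∈ M.L := inU (by norm_num) (by norm_num)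
  have hcL : c ∈ M.L := inU (by norm_num) (by norm_num)
  have hzL : z ∈ M.L := hz6 ▸ inU (a := 256) (by norm_num) (by norm_num)
  have cz' : ∀ a, Loc.ev g a * z = z * Loc.ev g a := fun a => (M.hat_ev a).comm
  have ccf : c * f = f * c := by rw [hc, hf, hmul (by norm_num), hmul (by norm_num), c13]
  have ccg : c * gg = gg * c := by rw [hc, hgg, hmul (by norm_num), hmul (by norm_num), c19]
  -- the configuration
  set Xg := xH z f gg c y1 y2 with hXg
  have hXd : ∀ s < 4, Xg s ∈ M.L ∧ Commute (Xg s) d := fun s hs => by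
    interval_cases s
    exacts [⟨hfL, (show Commute d f from efe ▸ hdf.cf).symm⟩, ⟨hgL, (show Commute d gg from egg ▸ hdg.cf).symm⟩,
      ⟨hy1L, hy1d⟩, ⟨hy2L, hy2d⟩]
  have hwd : ∀ w : List ℕ, (∀ s ∈ w, s < 4) → Spor.Cos.ev Xg w ∈ M.L ∧ Spor.Cos.ev Xg w * d = d * Spor.Cos.ev Xg w := by
    intro w hw
    refine ⟨Spor.Cos.ev_mem w fun s hs => (hXd s (hw s hs)).1, Subgroup.mem_centralizer_singleton_iff.1 ?_⟩
    exact Spor.Cos.ev_mem w fun s hs => Subgroup.mem_centralizer_singleton_iff.2 (hXd s (hw s hs)).2.eq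
  set Xs : ℕ → M.L := xH ⟨z, hzL⟩ ⟨f, hfL⟩ ⟨gg, hgL⟩ ⟨c, hcL⟩ ⟨y1, hy1L⟩ ⟨y2, hy2L⟩
  have hcoe : ∀ w, ((Spor.Cos.ev Xs w : M.L) : G) = Spor.Cos.ev Xg w := fun w => by
    show M.L.subtype (Spor.Cos.ev Xs w) = _
    rw [Spor.Cos.ev_map M.L.subtype]
    congr 1
    exact funext fun s => match s with
      | 0 | 1 | 2 | 3 | 4 => rfl
      | _ + 5 => rfl
  have hcodeW : ∀ v : List ℕ, (∀ s ∈ v, s < 2) → codeW v < 512 ∧ Spor.Cos.ev Xg v = Loc.ev g (codeW v) := by
    intro v
    induction v with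
    | nil => intro _; exact ⟨by norm_num [codeW], by rw [Spor.Cos.ev]; exact (Loc.ev_zero (g := g)).symm⟩
    | cons s v ih =>
      intro hv
      obtain ⟨h1, h2⟩ := ih fun t ht => hv t (List.mem_cons_of_mem _ ht)
      refine ⟨(M.mulM_spec _ h1).1, ?_⟩
      rw [Spor.Cos.ev, h2, show codeW (s :: v) = mulM (if s = 0 then 32 else 96) (codeW v) from rfl, ← hmul h1]
      have := hv s (List.mem_cons_self ..)
      interval_cases s <;> rfl
  have C : Cfg (⟨z, hzL⟩ : M.L) ⟨f, hfL⟩ ⟨gg, hgL⟩ ⟨c, hcL⟩ ⟨y1, hy1L⟩ ⟨y2, hy2L⟩ := by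
    refine ⟨Subtype.ext S.code.ext.zz, fun e => S.code.ne (congrArg Subtype.val e), Subtype.ext f2, Subtype.ext g2',
      Subtype.ext c2, Subtype.ext (cz' 32).symm, Subtype.ext (cz' 96).symm, Subtype.ext (cz' 128).symm,
      Subtype.ext ccf, Subtype.ext ccg, Subtype.ext hfg, fun e => ?_, fun e => ?_, Subtype.ext hy13,
      Subtype.ext hy1z, Subtype.ext hy1f, Subtype.ext hy23, Subtype.ext hy2z, Subtype.ext hy2g, fun w hw h => ?_,
      fun w hw h => ?_⟩
    · have e' : Loc.ev g 128 = Loc.ev g 0 := (congrArg Subtype.val e).trans Loc.ev_zero.symm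
      exact absurd (M.ev_inj (by norm_num) (by norm_num) e') (by norm_num)
    · exact hne (a := 128) (by norm_num) (by norm_num) (congrArg Subtype.val e)
    · obtain ⟨hxL, hxd⟩ := hwd w hw
      have hxz : Spor.Cos.ev Xg w * z = z * Spor.Cos.ev Xg w := by
        rw [← hcoe]; exact congrArg Subtype.val h
      obtain ⟨a, ha, ha8, hae⟩ : ∃ a < 512, a % 8 = 0 ∧ Loc.ev g a = Spor.Cos.ev Xg w := by
        have : Spor.Cos.ev Xg w ∈ M.U := by
          rw [← M.L_inter]; exact ⟨hxL, M.mem_SS.2 ⟨hxz, M.L_le hxL⟩⟩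
        obtain ⟨a, ha, ha8, e⟩ := this
        exact ⟨a, ha, ha8, e⟩
      have hcl := closed_codes
      simp only [List.all_eq_true, List.mem_range, Bool.or_eq_true, Bool.not_eq_true', beq_eq_false_iff_ne,
        List.contains_iff_mem] at hcl
      have hmem := (hcl (a / 8) (by omega)).resolve_left (fun hn => hn (by
        rw [show 8 * (a / 8) = a by omega]
        refine (((M.hat_ev a).mul hdh).ext_eq ?_)
        rw [hae, hxd, ← hae]
        exact hdh.mul (M.hat_ev a)))
      rw [show 8 * (a / 8) = a by omega] at hmem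
      have hcw := codeW_cover
      simp only [List.all_eq_true, List.any_eq_true, beq_iff_eq] at hcw
      obtain ⟨v, hv, hve⟩ := hcw a hmem
      refine ⟨v, hv, Subtype.ext ?_⟩
      show ((Spor.Cos.ev Xs w : M.L) : G) = ((Spor.Cos.ev Xs v : M.L) : G)
      rw [hcoe, hcoe, (hcodeW v (dWords_lt v hv)).2, hve, hae]
    · obtain ⟨hxL, hxd⟩ := hwd w hw
      refine Subtype.ext ?_
      show ((Spor.Cos.ev Xs w : M.L) : G) = 1
      rw [hcoe]
      refine not_seven M hdf (Subgroup.mem_centralizer_singleton_iff.1 (M.L_le hxL)) hxd ?_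
      rw [← hcoe]; exact congrArg Subtype.val h
  obtain ⟨e⟩ := M.L_iso
  obtain ⟨wb, hwb, hzb, hrel⟩ := found e C
  set b := Spor.Cos.ev Xg wb with hb
  obtain ⟨hbL, hbd⟩ := hwd wb hwb
  have hrelG : ∀ r ∈ relB, Spor.Cos.ev (withB Xg b) r = 1 := fun r hr => by
    have h := congrArg Subtype.val (hrel r hr)
    rw [OneMemClass.coe_one, show ((Spor.Cos.ev (withB Xs (Spor.Cos.ev Xs wb)) r : M.L) : G) =
      M.L.subtype (Spor.Cos.ev (withB Xs (Spor.Cos.ev Xs wb)) r) from rfl, Spor.Cos.ev_map M.L.subtype] at h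
    rw [← h]
    congr 1
    funext s
    unfold withB
    split_ifs
    · exact (hcoe wb).symm
    · match s with
      | 0 | 1 | 2 | 3 | 4 => rfl
      | _ + 5 => rfl
  have hW : ∀ w : List ℕ, ∀ k, (List.replicate k w).flatten ∈ relB → Spor.Cos.ev (withB Xg b) w ^ k = 1 :=
    fun w k h => by rw [← Spor.Cos.ev_power]; exact hrelG _ h
  have rb : b * b = 1 := by simpa [Spor.Cos.ev, withB] using hrelG [6, 6] (by decide)
  have r5 : (z * b) ^ 5 = 1 := by simpa [Spor.Cos.ev, withB, Xg, xH] using hW [5, 6] 5 (by decide)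
  have rc : (b * c) ^ 3 = 1 := by simpa [Spor.Cos.ev, withB, Xg, xH] using hW [6, 4] 3 (by decide)
  have rf : (b * f) ^ 3 = 1 := by simpa [Spor.Cos.ev, withB, Xg, xH] using hW [6, 0] 3 (by decide)
  have rg : (b * gg) ^ 3 = 1 := by simpa [Spor.Cos.ev, withB, Xg, xH] using hW [6, 1] 3 (by decide)
  have rzc : (z * (b * (c * f))) ^ 5 = 1 := by simpa [Spor.Cos.ev, withB, Xg, xH] using hW [5, 6, 4, 0] 5 (by decide)
  have rbfg : (b * (f * gg)) ^ 5 = 1 := by simpa [Spor.Cos.ev, withB, Xg, xH] using hW [6, 0, 1] 5 (by decide)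
  have hd2 := hdf.sq
  have hdz : z * d = d * z := hdf.cz.symm
  have hdF : d * f = f * d := efe ▸ hdf.cf
  have hdG : d * gg = gg * d := egg ▸ hdg.cf
  have htL : ∀ {x : G}, x ∈ M.L → x * g 2 = g 2 * x := fun hx => Subgroup.mem_centralizer_singleton_iff.1 (M.L_le hx)
  -- the relation of the third involution and the new one
  have hcd2 : c * d * (c * d) * (c * d * (c * d)) = z := by
    have e1 : c * d * (c * d) = el S.code (mulP K6 54 (ap K6 hd 54)) := by
      rw [← el_mul, ← hdh.app, ← ece]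
      calc c * d * (c * d) = c * (d * c * d) := by group
        _ = c * (d * c * d⁻¹) := by rw [inv_eq_of_mul_eq_one_right hd2]
    rw [e1, el_mul, hcd, el_one]
  have hcd4 : (c * d) ^ 4 = z := by rw [pow_succ, pow_succ, pow_two, ← hcd2]; group
  let σ : ℕ → G := fun s => match s with
    | 0 => z
    | 1 => b
    | 2 => c
    | 3 => d
    | 4 => g 2
    | 5 => f
    | 6 => gg
    | _ => 1
  have sq2 : ∀ x y : G, x * x = 1 → y * y = 1 → x * y = y * x → x * (y * (x * y)) = 1 := fun x y hx hy h => by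
    calc x * (y * (x * y)) = x * (y * x) * y := by group
      _ = (x * x) * (y * y) := by rw [← h]; group
      _ = 1 := by rw [hx, hy, one_mul]
  have zz := S.code.ext.zz
  refine ⟨σ, fun s => ?_, ?_, fun e => hzb (Subtype.ext ?_), fun e => S.code.ne ?_⟩
  · match s with
    | 0 => exact zz
    | 1 => exact rb
    | 2 => exact c2
    | 3 => exact hd2
    | 4 => exact M.g2_sq
    | 5 => exact f2
    | 6 => exact g2'
    | _ + 7 => exact one_mul 1
  rotate_left
  · show z * ((Spor.Cos.ev Xs wb : M.L) : G) = 1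
    rw [hcoe]; exact e
  · rw [← hcd4]; exact e
  intro w hw
  simp only [relWords, Spor.Cos.Suz.words, List.take, List.mem_cons, List.not_mem_nil, or_false] at hw
  rcases hw with rfl | rfl | rfl | rfl | rfl | rfl | rfl | rfl | rfl | rfl | rfl | rfl | rfl | rfl | rfl | rfl | rfl |
    rfl | rfl | rfl | rfl | rfl | rfl | rfl | rfl <;> simp only [Spor.Cos.ev, σ, mul_one]
  · simpa only [pow_succ, pow_zero, one_mul, mul_assoc] using r5
  · exact sq2 _ _ zz c2 (cz' 128).symm
  · exact sq2 _ _ zz hd2 hdz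
  · exact sq2 _ _ zz M.g2_sq (M.hat 2).comm.symm
  · exact sq2 _ _ zz f2 (cz' 32).symm
  · exact sq2 _ _ zz g2' (cz' 96).symm
  · simpa only [pow_succ, pow_zero, one_mul, mul_assoc] using rc
  · exact sq2 _ _ rb hd2 hbd
  · exact sq2 _ _ rb M.g2_sq (htL hbL)
  · simpa only [pow_succ, pow_zero, one_mul, mul_assoc] using rf
  · simpa only [pow_succ, pow_zero, one_mul, mul_assoc] using rg
  · calc _ = (c * d) ^ 4 * (c * d) ^ 4 := by simp only [pow_succ, pow_zero, one_mul, mul_assoc]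
      _ = 1 := by rw [hcd4, zz]
  · exact sq2 _ _ c2 M.g2_sq (htL hcL)
  · exact sq2 _ _ c2 f2 ccf
  · exact sq2 _ _ c2 g2' ccg
  · simpa only [mul_assoc] using hdf.cube
  · exact sq2 _ _ hd2 f2 hdF
  · exact sq2 _ _ hd2 g2' hdG
  · exact sq2 _ _ M.g2_sq f2 (htL hfL).symm
  · exact sq2 _ _ M.g2_sq g2' (htL hgL).symm
  · calc _ = f * gg * (f * gg) * (f * gg * (f * gg)) := by simp only [mul_assoc]
      _ = 1 := by rw [hfg, zz]
  · have e : (d * c) ^ 4 = z := by
      rw [show d * c = (c * d)⁻¹ by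
        rw [mul_inv_rev, inv_eq_of_mul_eq_one_right hd2, inv_eq_of_mul_eq_one_right c2], inv_pow, hcd4, S.code.zinv]
    calc _ = z * (d * c) ^ 4 := by simp only [pow_succ, pow_zero, one_mul, mul_assoc]
      _ = 1 := by rw [e, zz]
  · calc _ = z * (f * gg * (f * gg))⁻¹ := by
          rw [mul_inv_rev, mul_inv_rev, inv_eq_of_mul_eq_one_right f2, inv_eq_of_mul_eq_one_right g2']
          simp only [mul_assoc]
      _ = 1 := by rw [hfg, mul_inv_cancel]
  · simpa only [pow_succ, pow_zero, one_mul, mul_assoc] using rzc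
  · simpa only [pow_succ, pow_zero, one_mul, mul_assoc] using rbfg

/-- A group of this type is the Suzuki group. -/
theorem iso_suz (M : Mdl S g) : Cfsg.Spor.IsoSuz G := by
  obtain ⟨σ, h1, h2, h3, h4⟩ := exists_gens M
  exact iso_of_gens M.card_G h1 h2 h3 h4

end Cfsg.Agent.Fus.SuzUniq
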