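import Cfsg.Agent.Lib.Spor.PSLThreeFour
import Cfsg.Agent.Lib.Spor.Cos.Words

/-!
# Checks in matrices of degree three over four elements

Letters: `0` and `1` are the two involutions of the dihedral group, `2` and `3` the two turning elements,
`4` the third involution, `5` the central one, `6` the element sought.
-/

set_option autoImplicit false
set_option maxRecDepth 100000

namespace Cfsg.Agent.Fus.SuzUniq

open Cfsg.Agent.Spor.SU32

/-- A matrix by its entries. -/
structure M9 where
  a : F4
  b : F4
  c : F4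
  d : F4
  e : F4
  f : F4
  g : F4
  h : F4
  i : F4
  deriving DecidableEq

namespace M9

/-- The product. -/
def mul (A B : M9) : M9 :=
  ⟨A.a * B.a + A.b * B.d + A.c * B.g, A.a * B.b + A.b * B.e + A.c * B.h, A.a * B.c + A.b * B.f + A.c * B.i,
    A.d * B.a + A.e * B.d + A.f * B.g, A.d * B.b + A.e * B.e + A.f * B.h, A.d * B.c + A.e * B.f + A.f * B.i,
    A.g * B.a + A.h * B.d + A.i * B.g, A.g * B.b + A.h * B.e + A.i * B.h, A.g * B.c + A.h * B.f + A.i * B.i⟩

/-- A scalar matrix. -/
def sca (s : F4) : M9 := ⟨s, 0, 0, 0, s, 0, 0, 0, s⟩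

/-- Being a scalar of the special linear group. -/
def isSc (A : M9) : Bool := A == sca 1 || A == sca F4.w || A == sca F4.v

/-- The matrix with its rows as the three arguments. -/
def of (M : Matrix (Fin 3) (Fin 3) F4) : M9 :=
  ⟨M 0 0, M 0 1, M 0 2, M 1 0, M 1 1, M 1 2, M 2 0, M 2 1, M 2 2⟩

theorem of_mul (A B : Matrix (Fin 3) (Fin 3) F4) : of (A * B) = mul (of A) (of B) := by
  simp only [of, mul, Matrix.mul_apply, Fin.sum_univ_three]

theorem of_one : of (1 : Matrix (Fin 3) (Fin 3) F4) = sca 1 := by decide +kernel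

theorem of_inj {A B : Matrix (Fin 3) (Fin 3) F4} (h : of A = of B) : A = B := by
  simp only [of, mk.injEq] at h
  obtain ⟨h00, h01, h02, h10, h11, h12, h20, h21, h22⟩ := h
  ext i j
  fin_cases i <;> fin_cases j <;> assumption

theorem mul_assoc9 (A B C : M9) : mul (mul A B) C = mul A (mul B C) := by
  simp only [mul, mk.injEq]
  refine ⟨?_, ?_, ?_, ?_, ?_, ?_, ?_, ?_, ?_⟩ <;> ring

theorem one_mul9 (A : M9) : mul (sca 1) A = A := by
  simp [mul, sca]

theorem mul_one9 (A : M9) : mul A (sca 1) = A := by
  simp [mul, sca]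

theorem sca_comm (s : F4) (A : M9) : mul (sca s) A = mul A (sca s) := by
  simp [mul, sca, mul_comm]

/-- The value of a word. -/
def evM (x : ℕ → M9) : List ℕ → M9
  | [] => sca 1
  | s :: w => mul (x s) (evM x w)

/-- Conjugation by a pair of inverse matrices. -/
def cj (P Q A : M9) : M9 := mul P (mul A Q)

theorem cj_mul {P Q : M9} (h : mul Q P = sca 1) (A B : M9) : cj P Q (mul A B) = mul (cj P Q A) (cj P Q B) := by
  simp only [cj, mul_assoc9]
  rw [← mul_assoc9 Q P, h, one_mul9]

theorem cj_sca {P Q : M9} (h : mul P Q = sca 1) (s : F4) : cj P Q (sca s) = sca s := by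
  rw [cj, sca_comm, ← mul_assoc9, h, one_mul9]

theorem cj_cancel {P Q : M9} (h : mul Q P = sca 1) (A : M9) : cj Q P (cj P Q A) = A := by
  simp only [cj, mul_assoc9]
  rw [h, mul_one9, ← mul_assoc9, h, one_mul9]

theorem cj_evM {P Q : M9} (h1 : mul P Q = sca 1) (h2 : mul Q P = sca 1) (x : ℕ → M9) :
    ∀ w, evM (fun s => cj P Q (x s)) w = cj P Q (evM x w)
  | [] => by simp only [evM, cj_sca h1]
  | s :: w => by simp only [evM, cj_evM h1 h2 x w, cj_mul h2]

end M9

open M9

/-- All elements of the field. -/
def fs : List F4 := [.o, .e, .w, .v]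

theorem mem_fs : ∀ a : F4, a ∈ fs := by decide +kernel

/-- The central involution. -/
def Z0 : M9 := ⟨1, 0, 1, 0, 1, 0, 0, 0, 1⟩

/-- The first involution. -/
def F0 : M9 := ⟨1, 1, 0, 0, 1, 0, 0, 0, 1⟩

/-- The second involution. -/
def G0 : M9 := ⟨1, 0, 0, 0, 1, 1, 0, 0, 1⟩

/-- The involutions commuting with the central one, and the trivial element. -/
def invs : List M9 :=
  (fs.flatMap fun a => fs.flatMap fun b => fs.flatMap fun c => fs.flatMap fun e => fs.map fun f =>
    (⟨a, b, c, 0, e, f, 0, 0, a⟩ : M9)).filter fun A => mul A A == sca 1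

/-- Pairs of inverse changes of basis fixing the central involution. -/
def bases : List (M9 × M9) :=
  fs.flatMap fun k => fs.flatMap fun x => fs.filterMap fun y =>
    if k == 0 then none else some (⟨1, y, 0, 0, k, x, 0, 0, 1⟩, ⟨1, y * k⁻¹, y * x * k⁻¹, 0, k⁻¹, x * k⁻¹, 0, 0, 1⟩)

theorem bases_ok : bases.all (fun p => mul p.1 p.2 == sca 1 && mul p.2 p.1 == sca 1 && cj p.1 p.2 Z0 == Z0) = true := by
  decide +kernel

/-- The two involutions can be brought to the standard ones, in one order or the other. -/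
theorem norm_ok : invs.all (fun F => invs.all fun G =>
    !isSc (mul (mul (mul F G) (mul F G)) Z0) || bases.any fun p =>
      (cj p.1 p.2 F == F0 && cj p.1 p.2 G == G0) || (cj p.1 p.2 G == F0 && cj p.1 p.2 F == G0)) = true := by
  decide +kernel

/-- The candidates for the third involution. -/
def cand : List M9 :=
  invs.filter fun C => mul C F0 == mul F0 C && mul C G0 == mul G0 C && !isSc C && !isSc (mul C Z0)

/-- The candidates for the first turning element. -/
def turn1 : List M9 :=
  (fs.flatMap fun q => fs.flatMap fun r => fs.flatMap fun s => fs.map fun t =>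
    (⟨1, q, r, 0, 0, 1, 0, s, t⟩ : M9)).filter fun A =>
      mul A (mul A A) == sca 1 && mul A Z0 == mul F0 A && mul A F0 == mul (mul Z0 F0) A

/-- The candidates for the second turning element. -/
def turn2 : List M9 :=
  (fs.flatMap fun q => fs.flatMap fun r => fs.flatMap fun s => fs.map fun t =>
    (⟨0, q, r, 1, s, t, 0, 0, 1⟩ : M9)).filter fun A =>
      mul A (mul A A) == sca 1 && mul A Z0 == mul G0 A && mul A G0 == mul (mul Z0 G0) A

/-- The elements of the dihedral group. -/
def dWords : List (List ℕ) := [[], [0], [1], [0, 1], [1, 0], [0, 1, 0], [1, 0, 1], [0, 1, 0, 1]]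

/-- The relations of the element sought. -/
def relB : List (List ℕ) :=
  [[6, 6], (List.replicate 5 [5, 6]).flatten, (List.replicate 3 [6, 4]).flatten, (List.replicate 3 [6, 0]).flatten,
    (List.replicate 3 [6, 1]).flatten, (List.replicate 5 [5, 6, 4, 0]).flatten,
    (List.replicate 5 [5, 6, 4, 1]).flatten, (List.replicate 5 [6, 0, 1]).flatten, (List.replicate 5 [6, 1, 0]).flatten]

/-- The words for the element sought. -/
def bWords : List (List ℕ) :=
  [[0, 1, 2, 3, 2, 3], [0, 3, 2, 0, 3, 2], [0, 3, 2, 3, 1, 2], [0, 3, 2, 3, 2, 0]]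

/-- The letters. -/
def xM (A B C : M9) : ℕ → M9
  | 0 => F0
  | 1 => G0
  | 2 => A
  | 3 => B
  | 4 => C
  | _ => Z0

/-- Replacing the sought letter. -/
def withB {α : Type*} (x : ℕ → α) (b : α) (n : ℕ) : α := if n = 6 then b else x n

/-- The inverse word. -/
def invW (w : List ℕ) : List ℕ := w.reverse.flatMap fun s => if s < 2 then [s] else [s, s]

/-- An element of the centralizer of the central involution outside the dihedral group. -/
def badW (x : ℕ → M9) (w : List ℕ) : Bool :=
  isSc (evM x (w ++ 5 :: invW w ++ [5])) && dWords.all fun v =>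
    !isSc (evM x (w ++ v.reverse))

/-- An element of order seven. -/
def sevenW (x : ℕ → M9) (w : List ℕ) : Bool :=
  !isSc (evM x w) && isSc (evM x (List.replicate 7 w).flatten)

/-- The element sought is found. -/
def goodW (x : ℕ → M9) (w : List ℕ) : Bool :=
  !isSc (evM x (5 :: w)) && relB.all fun r => isSc (evM (withB x (evM x w)) r)

/-- The main check. -/
theorem core_ok : turn1.all (fun A => badW (xM A (sca 1) (sca 1)) [2, 1, 2] || turn2.all fun B =>
    badW (xM A B (sca 1)) [3, 0, 3] || cand.all fun C =>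
      let x := xM A B C
      sevenW x [2, 3] || sevenW x [0, 2, 3] || bWords.any (goodW x)) = true := by
  decide +kernel

end Cfsg.Agent.Fus.SuzUniq
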