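import Cfsg.Agent.Lib.Fus.SuzUniq.Fix
import Cfsg.Agent.Lib.Invol.Suz.Loc.LocalD

/-!
# An element of order three fixing the involution and turning the four-group
-/

set_option autoImplicit false
set_option linter.unusedSectionVars false
set_option linter.style.haveILetI false
set_option maxRecDepth 100000

namespace Cfsg.Agent.Fus.SuzUniq

open Cfsg Cfsg.Agent.Classical.BinCoc Cfsg.Agent.Invol.Big Cfsg.Agent.Invol.Big.Code Cfsg.Agent.Invol.Suz
  Cfsg.Agent.Invol.Suz.Loc

/-- The hat of the involution. -/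
def hd : List ℕ := [3, 16, 8, 4, 96, 65]

/-- The points moved by a code. -/
def moves (a : ℕ) : Bool := (pts K6).any fun v => !(ap K6 (hatM a) (2 * v) / 2 == v)

/-- The codes of the conjugates of `z` in `Q`. -/
def chkOrb (fc : ℕ) : Bool :=
  aList.all fun a => a == 256 || a == 128 || a == 384 || moves a ||
    (List.range 512).any fun p => mulM p fc == mulM a p

/-- The elements giving the whole orbit of the involution. -/
def chkReps (fc : ℕ) (reps : List ℕ) : Bool :=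
  reps.all (fun a => decide (a < 512) && mulM a a == 0 && mulM a fc == mulM fc a) &&
    decide ((reps.map fun a => cmp K6 (hatM a) (cmp K6 hd (hatM a))).Nodup) && (reps.length == 16)

/-- The representatives for the first four-group. -/
def repsF : List ℕ := [0, 2, 4, 8, 128, 6, 10, 12, 130, 132, 136, 14, 134, 138, 140, 142]

/-- The representatives for the second four-group. -/
def repsG : List ℕ := [0, 2, 4, 16, 128, 6, 18, 20, 130, 132, 144, 22, 134, 146, 148, 150]

theorem orb_f : chkOrb 32 = true := by decide +kernel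

theorem orb_g : chkOrb 96 = true := by decide +kernel

theorem reps_f : chkReps 32 repsF = true := by decide +kernel

theorem reps_g : chkReps 96 repsG = true := by decide +kernel

variable {G : Type*} [Group G] [Finite G] {z : G} {Q : Subgroup G} {cd : G → ℕ} {S : Setting z Q cd} {g : ℕ → G}

/-- The stabiliser of a four-group in `C(t)`. -/
def stabV (g : ℕ → G) (z f : G) : Subgroup G where
  carrier := {w | w ∈ Dg g ∧ ∀ v ∈ ({1, z, f, z * f} : Set G), w * v * w⁻¹ ∈ ({1, z, f, z * f} : Set G)}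
  one_mem' := ⟨(Dg g).one_mem, fun v hv => by simpa using hv⟩
  mul_mem' := fun {a b} ha hb => ⟨(Dg g).mul_mem ha.1 hb.1, fun v hv => by
    rw [show a * b * v * (a * b)⁻¹ = a * (b * v * b⁻¹) * a⁻¹ by group]
    exact ha.2 _ (hb.2 v hv)⟩
  inv_mem' := fun {a} ha => by
    have hp : ∀ k : ℕ, a ^ k ∈ Dg g ∧ ∀ v ∈ ({1, z, f, z * f} : Set G), a ^ k * v * (a ^ k)⁻¹ ∈ ({1, z, f, z * f} : Set G) := by
      intro k
      induction k with
      | zero => exact ⟨by simp, fun v hv => by simpa using hv⟩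
      | succ k ih =>
        refine ⟨pow_mem ha.1 _, fun v hv => ?_⟩
        rw [show a ^ (k + 1) * v * (a ^ (k + 1))⁻¹ = a * (a ^ k * v * (a ^ k)⁻¹) * a⁻¹ by rw [pow_succ']; group]
        exact ha.2 _ (ih.2 v hv)
    have e : a⁻¹ = a ^ (orderOf a - 1) := by
      refine inv_eq_of_mul_eq_one_right ?_
      rw [← pow_succ', Nat.sub_add_cancel (orderOf_pos a), pow_orderOf_eq_one]
    exact e ▸ hp _

theorem mem_stabV {z f w : G} : w ∈ stabV g z f ↔
    w ∈ Dg g ∧ ∀ v ∈ ({1, z, f, z * f} : Set G), w * v * w⁻¹ ∈ ({1, z, f, z * f} : Set G) := Iff.rfl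

/-- The stabiliser preserves the set of involutions. -/
theorem stab_InS (M : Mdl S g) {c : ℕ} {w x : G} (hw : w ∈ stabV g z (el S.code c))
    (hx : InS z (g 2) (el S.code c) x) : InS z (g 2) (el S.code c) (w * x * w⁻¹) := by
  set f := el S.code c
  set V : Set G := {1, z, f, z * f}
  have hcv : ∀ v ∈ V, x * v = v * x := by
    intro v hv
    simp only [V, Set.mem_insert_iff, Set.mem_singleton_iff] at hv
    rcases hv with rfl | rfl | rfl | rfl
    · simp
    · exact hx.cz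
    · exact hx.cf
    · rw [← mul_assoc, hx.cz, mul_assoc, hx.cf, mul_assoc]
  have hsurj : ∀ u ∈ V, ∃ v ∈ V, w * v * w⁻¹ = u := fun u hu => by
    obtain ⟨v, hv⟩ := (Finite.injective_iff_surjective.1
      (show Function.Injective (fun v : V => (⟨w * v.1 * w⁻¹, hw.2 v.1 v.2⟩ : V)) from fun a b e =>
        Subtype.ext (by simpa using congrArg Subtype.val e))) ⟨u, hu⟩
    exact ⟨v.1, v.2, congrArg Subtype.val hv⟩
  have hcom : ∀ u ∈ V, w * x * w⁻¹ * u = u * (w * x * w⁻¹) := fun u hu => by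
    obtain ⟨v, hv, rfl⟩ := hsurj u hu
    rw [conj_mul, conj_mul, hcv v hv]
  have hwt : w * g 2 * w⁻¹ = g 2 := mul_inv_eq_iff_eq_mul.2 (Subgroup.mem_centralizer_singleton_iff.1 hw.1)
  refine ⟨hcom z (by simp [V]), hcom f (by simp [V]), by rw [conj_mul, hx.sq]; group, ?_, fun e => hx.ne ?_⟩
  · have h1 : w * x * w⁻¹ * g 2 = w * (x * g 2) * w⁻¹ := by
      conv_lhs => rw [← hwt]
      rw [conj_mul]
    rw [h1, conj_mul, conj_mul, hx.cube]; group
  · calc x = w⁻¹ * (w * x * w⁻¹) * w := by group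
      _ = w⁻¹ * (w * g 2 * w⁻¹) * w := by rw [e, hwt]
      _ = g 2 := by group

/-- An element of `C(t)` carrying `z` to the point of `Q` and back. -/
theorem exists_flip (M : Mdl S g) {fc sw : ℕ} (hfc : fc < 512) (hf8 : fc % 8 = 0) (hsw : sw < 512) (hs8 : sw % 8 = 0)
    (hQ : ev g fc ∈ Q) (hA : IsConj z (ev g fc)) (hne : ev g fc ≠ z)
    (hnc : ev g sw * ev g fc ≠ ev g fc * ev g sw) (horb : chkOrb fc = true) :
    ∃ k ∈ Dg g, k * z * k⁻¹ = ev g fc ∧ k * ev g fc * k⁻¹ = z := by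
  have hfU : ev g fc ∈ M.U := (M.ev_mem_U hfc).2 hf8
  obtain ⟨l, hl, hle⟩ := M.L_conj (M.SS_le (M.ev_SS hfc)) hA
  set u := l⁻¹ * z * l with hu
  have hlu : l * u * l⁻¹ = z := by rw [hu]; group
  have hlD := M.L_le hl
  have huD : u ∈ Dg g := (Dg g).mul_mem ((Dg g).mul_mem ((Dg g).inv_mem hlD) M.z_mem_D) hlD
  have huA : IsConj z u := _root_.isConj_iff.2 ⟨l⁻¹, by rw [hu, inv_inv]⟩
  have huz : u * z = z * u := by
    have h1 : z * ev g fc = ev g fc * z := (M.hat_ev fc).comm.symm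
    rw [← hle] at h1
    calc u * z = l⁻¹ * (z * (l * z * l⁻¹)) * l := by rw [hu]; group
      _ = l⁻¹ * (l * z * l⁻¹ * z) * l := by rw [h1]
      _ = z * u := by rw [hu]; group
  have huQ : u ∈ Q := mem_Qc.1 (S.code.symm S.big (hle ▸ hQ : l * z * l⁻¹ ∈ Q))
  obtain ⟨a, ha, hau⟩ := M.mem_SS.2 ⟨huz, huD⟩
  have haA : a ∈ aList := (M.mem_aList ha).2 (hau ▸ huA)
  simp only [chkOrb, List.all_eq_true, Bool.or_eq_true, beq_iff_eq, List.any_eq_true, List.mem_range] at horb
  rcases horb a haA with (((h256 | h128) | h384) | hmv) | ⟨p, hp, hpe⟩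
  · exfalso
    refine hne ?_
    have h1 : u = z := by rw [← hau, h256, M.z_eq]
    calc ev g fc = l * z * l⁻¹ := hle.symm
      _ = l * u * l⁻¹ := by rw [h1]
      _ = z := hlu
  rotate_left
  rotate_left
  · exfalso
    simp only [moves, List.any_eq_true, pts, List.mem_range, Bool.not_eq_true', beq_eq_false_iff_ne] at hmv
    obtain ⟨v, hv, hne'⟩ := hmv
    exact (M.hat_ev a).not_mem hv hne' (hau ▸ huQ)
  · have hpf : ev g p * ev g fc = u * ev g p := by rw [M.ev_mul p hfc, hpe, ← M.ev_mul a hp, hau]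
    refine ⟨l * ev g p, (Dg g).mul_mem hlD (M.SS_le (M.ev_SS hp)), ?_, ?_⟩
    · rw [show l * ev g p * z * (l * ev g p)⁻¹ = l * (ev g p * z * (ev g p)⁻¹) * l⁻¹ by group,
        (M.hat_ev p).comm, mul_inv_cancel_right, hle]
    · rw [show l * ev g p * ev g fc * (l * ev g p)⁻¹ = l * (ev g p * ev g fc * (ev g p)⁻¹) * l⁻¹ by group,
        hpf, mul_inv_cancel_right, hlu]
  all_goals
    exfalso
    have hcU : ∀ w ∈ M.U, w * u = u * w := by
      intro w hw
      have := (M.ZU_mem (a := a) (by omega)).2.1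
      rw [hau] at this
      exact Subgroup.mem_centralizer_iff.1 this w hw
    have hin : ∀ w ∈ M.U, l * w * l⁻¹ ∈ M.U := by
      intro w hw
      have hL : l * w * l⁻¹ ∈ M.L := mul_mem (mul_mem hl (M.U_le_L hw)) (inv_mem hl)
      rw [← M.L_inter]
      refine ⟨hL, M.mem_SS.2 ⟨?_, M.L_le hL⟩⟩
      rw [← hlu, conj_mul, conj_mul, hcU w hw]
    obtain ⟨⟨w, hw⟩, hwe⟩ := (Finite.injective_iff_surjective.1
      (show Function.Injective (fun w : M.U => (⟨l * w.1 * l⁻¹, hin w.1 w.2⟩ : M.U)) from fun a b e =>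
        Subtype.ext (by simpa using congrArg Subtype.val e))) ⟨ev g sw, (M.ev_mem_U hsw).2 hs8⟩
    refine hnc ?_
    have hwe' : l * w * l⁻¹ = ev g sw := congrArg Subtype.val hwe
    have hwz : w * z = z * w := (M.mem_SS.1 (M.S0_le (M.U_le_S0 hw))).1
    rw [← hle, ← hwe', conj_mul, conj_mul, hwz]

/-- An element of order three of `L` fixing the involution and turning the four-group. -/
theorem exists_turn (M : Mdl S g) {fc sw c : ℕ} (hfc : fc < 512) (hf8 : fc % 8 = 0) (hsw : sw < 512)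
    (hs8 : sw % 8 = 0) (hc : c < 128) (hfe : ev g fc = el S.code c) (hA : IsConj z (ev g fc))
    (hne : ev g fc ≠ z) (hswf : ev g sw * ev g fc * (ev g sw)⁻¹ = z * ev g fc)
    (hcov : covers K6 ((gensV (c / 2)).map Prod.fst) = true) (hlen : (cands c).length = 16)
    (horb : chkOrb fc = true) {reps : List ℕ} (hreps : chkReps fc reps = true) {d : G}
    (hd : IsHat S.code d hd) (hdS : InS z (g 2) (el S.code c) d) :
    ∃ y ∈ M.L, y * y * y = 1 ∧ y * z * y⁻¹ = ev g fc ∧ y * ev g fc * y⁻¹ = z * ev g fc ∧ y * d = d * y := by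
  classical
  have hQ : ev g fc ∈ Q := hfe ▸ el_mem S.code c
  set f := ev g fc with hf
  have hfz : f * z = z * f := (M.hat_ev fc).comm
  have hf2 : f * f = 1 := (Mdl.conj_class_sq S hA).1
  have hf1 : f ≠ 1 := (Mdl.conj_class_sq S hA).2
  have hnc : ev g sw * f ≠ f * ev g sw := fun e => S.code.ne (by
    have h1 := hswf
    rw [e, mul_inv_cancel_right] at h1
    exact mul_eq_right.1 h1.symm)
  obtain ⟨k, hk, hkz, hkf⟩ := exists_flip M hfc hf8 hsw hs8 hQ hA hne hnc horb
  set W := stabV g z f with hW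
  -- a triangle
  set u3 := k * ev g sw with hu3
  have hsz : ev g sw * z * (ev g sw)⁻¹ = z := by rw [(M.hat_ev sw).comm, mul_inv_cancel_right]
  have t1 : u3 * z * u3⁻¹ = f := by
    rw [show u3 * z * u3⁻¹ = k * (ev g sw * z * (ev g sw)⁻¹) * k⁻¹ by rw [hu3]; group, hsz, hkz]
  have t2 : u3 * f * u3⁻¹ = z * f := by
    rw [show u3 * f * u3⁻¹ = k * (ev g sw * f * (ev g sw)⁻¹) * k⁻¹ by rw [hu3]; group, hswf, ← conj_mul, hkz, hkf,
      hfz]
  have t3 : u3 * (z * f) * u3⁻¹ = z := by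
    rw [← conj_mul, t1, t2, ← mul_assoc, hfz, mul_assoc, hf2, mul_one]
  have hu3W : u3 ∈ W := by
    refine ⟨(Dg g).mul_mem hk (M.SS_le (M.ev_SS hsw)), fun v hv => ?_⟩
    simp only [Set.mem_insert_iff, Set.mem_singleton_iff] at hv ⊢
    rcases hv with rfl | rfl | rfl | rfl
    · simp
    · exact Or.inr (Or.inr (Or.inl t1))
    · exact Or.inr (Or.inr (Or.inr t2))
    · exact Or.inr (Or.inl t3)
  have hper : ∀ n, u3 ^ (3 * n) * z * (u3 ^ (3 * n))⁻¹ = z := by
    intro n
    induction n with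
    | zero => simp
    | succ n ih =>
      rw [show u3 ^ (3 * (n + 1)) * z * (u3 ^ (3 * (n + 1)))⁻¹ =
        u3 * (u3 * (u3 * (u3 ^ (3 * n) * z * (u3 ^ (3 * n))⁻¹) * u3⁻¹) * u3⁻¹) * u3⁻¹ by
          rw [show 3 * (n + 1) = 1 + 1 + 1 + 3 * n by ring, pow_add, pow_add, pow_add, pow_one]; group,
        ih, t1, t2, t3]
  have h3W : 3 ∣ Nat.card W := by
    refine dvd_trans ?_ (Subgroup.orderOf_dvd_natCard W hu3W)
    obtain ⟨q, r, hr, hm⟩ : ∃ q r, r < 3 ∧ orderOf u3 = 3 * q + r :=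
      ⟨orderOf u3 / 3, orderOf u3 % 3, Nat.mod_lt _ (by norm_num), (Nat.div_add_mod _ 3).symm⟩
    have h0 : u3 ^ r * z * (u3 ^ r)⁻¹ = z := by
      conv_rhs => rw [show z = u3 ^ (3 * q + r) * z * (u3 ^ (3 * q + r))⁻¹ by
        rw [← hm, pow_orderOf_eq_one]; group]
      rw [show 3 * q + r = r + 3 * q by ring, pow_add]
      calc u3 ^ r * z * (u3 ^ r)⁻¹ = u3 ^ r * (u3 ^ (3 * q) * z * (u3 ^ (3 * q))⁻¹) * (u3 ^ r)⁻¹ := by rw [hper]
        _ = _ := by group
    interval_cases r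
    · exact ⟨q, hm⟩
    · rw [pow_one, t1] at h0; exact absurd h0 hne
    · rw [pow_two, show u3 * u3 * z * (u3 * u3)⁻¹ = u3 * (u3 * z * u3⁻¹) * u3⁻¹ by group, t1, t2] at h0
      exact absurd (mul_eq_left.1 h0) hf1
  -- the orbit
  set K := W ⊓ Subgroup.centralizer ({d} : Set G) with hK
  have hcard := card_of_orbit W K d (fun x => ∃ w ∈ W, w * d * w⁻¹ = x)
    (fun w => by rw [hK, Subgroup.mem_inf, Subgroup.mem_centralizer_singleton_iff])
    (fun x hx => hx) fun w hw => ⟨w, hw, rfl⟩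
  have hsub : ∀ x, (∃ w ∈ W, w * d * w⁻¹ = x) → InS z (g 2) (el S.code c) x := by
    rintro x ⟨w, hw, rfl⟩
    exact stab_InS M (hfe ▸ hw) hdS
  have hle : Nat.card {x // ∃ w ∈ W, w * d * w⁻¹ = x} ≤ 16 := by
    rw [← hlen]
    refine (Nat.card_le_card_of_injective
      (fun x : {x // ∃ w ∈ W, w * d * w⁻¹ = x} => (⟨x.1, hsub x.1 x.2⟩ : {x // InS z (g 2) (el S.code c) x}))
      fun a b e => Subtype.ext (congrArg (fun y : {x // InS z (g 2) (el S.code c) x} => y.1) e)).trans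
      (card_InS M hc hcov)
  simp only [chkReps, Bool.and_eq_true, List.all_eq_true, decide_eq_true_eq, beq_iff_eq] at hreps
  obtain ⟨⟨hr, hnd⟩, hr16⟩ := hreps
  have hinv : ∀ a ∈ reps, (ev g a)⁻¹ = ev g a := fun a ha => inv_eq_of_mul_eq_one_right (by
    rw [M.ev_mul a (hr a ha).1.1, (hr a ha).1.2, ev_zero])
  have hrW : ∀ a ∈ reps, ev g a ∈ W := by
    intro a ha
    obtain ⟨⟨ha5, -⟩, hcf⟩ := hr a ha
    refine ⟨M.SS_le (M.ev_SS ha5), fun v hv => ?_⟩
    have h1 : Commute (ev g a) z := (M.hat_ev a).comm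
    have h2 : Commute (ev g a) f := by
      show ev g a * ev g fc = ev g fc * ev g a
      rw [M.ev_mul a hfc, M.ev_mul fc ha5, hcf]
    have h3 : Commute (ev g a) v := by
      simp only [Set.mem_insert_iff, Set.mem_singleton_iff] at hv
      rcases hv with rfl | rfl | rfl | rfl
      exacts [Commute.one_right _, h1, h2, h1.mul_right h2]
    rwa [h3.eq, mul_inv_cancel_right]
  have hge : 16 ≤ Nat.card {x // ∃ w ∈ W, w * d * w⁻¹ = x} := by
    rw [← hr16, ← Nat.card_fin reps.length]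
    refine Nat.card_le_card_of_injective
      (fun i => ⟨ev g reps[i] * d * (ev g reps[i])⁻¹, ev g reps[i], hrW _ (List.getElem_mem _), rfl⟩) fun i j e => ?_
    have e' : ev g reps[i] * d * (ev g reps[i])⁻¹ = ev g reps[j] * d * (ev g reps[j])⁻¹ := congrArg Subtype.val e
    have hh : ∀ a ∈ reps, IsHat S.code (ev g a * d * (ev g a)⁻¹) (cmp K6 (hatM a) (cmp K6 SuzUniq.hd (hatM a))) :=
      fun a ha => by
        rw [hinv a ha, mul_assoc]
        exact (M.hat_ev a).mul (hd.mul (M.hat_ev a))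
    have := (hh _ (List.getElem_mem i.2)).ext_eq (e' ▸ hh _ (List.getElem_mem j.2))
    have hij := (List.Nodup.getElem_inj_iff hnd (i := i.1) (hi := by simp [i.2]) (j := j.1) (hj := by simp [j.2])).1
      (by simpa using this)
    exact Fin.ext hij
  have h3K : 3 ∣ Nat.card K := by
    rw [show Nat.card {x // ∃ w ∈ W, w * d * w⁻¹ = x} = 16 by omega] at hcard
    rw [hcard] at h3W
    exact (Nat.Coprime.dvd_mul_left (by norm_num : Nat.Coprime 3 16)).1 h3W
  haveI : Fact (Nat.Prime 3) := ⟨Nat.prime_three⟩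
  obtain ⟨⟨y, hyK⟩, hyo⟩ := exists_prime_orderOf_dvd_card' (G := K) 3 h3K
  rw [Subgroup.orderOf_mk] at hyo
  have hy3 : y * y * y = 1 := by
    have := pow_orderOf_eq_one y
    rwa [hyo, pow_succ, pow_two] at this
  have hy1 : y ≠ 1 := fun e => by rw [e, orderOf_one] at hyo; omega
  obtain ⟨⟨hyD, hyV⟩, hyd⟩ : (y ∈ Dg g ∧ ∀ v ∈ ({1, z, f, z * f} : Set G), y * v * y⁻¹ ∈ ({1, z, f, z * f} : Set G)) ∧
      y * d = d * y := ⟨hyK.1, Subgroup.mem_centralizer_singleton_iff.1 hyK.2⟩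
  have hyL : y ∈ M.L := M.odd_mem_L hyD (by rw [hyo]; decide)
  have hyz : y * z * y⁻¹ ≠ z := fun e => by
    obtain ⟨n, hn⟩ := M.pow_two_A M.z_mem_D (IsConj.refl z) hyD (mul_inv_eq_iff_eq_mul.1 e)
    have h := orderOf_dvd_of_pow_eq_one hn
    rw [hyo] at h
    have := Nat.prime_three.dvd_of_dvd_pow h
    omega
  have hinj : ∀ a b, y * a * y⁻¹ = y * b * y⁻¹ → a = b := fun a b e => by simpa using e
  have hy3z : y * (y * (y * z * y⁻¹) * y⁻¹) * y⁻¹ = z := by
    calc y * (y * (y * z * y⁻¹) * y⁻¹) * y⁻¹ = (y * y * y) * z * (y * y * y)⁻¹ := by group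
      _ = z := by rw [hy3]; group
  have key : ∀ v v', y * z * y⁻¹ = v → v ≠ z → v' ∈ ({f, z * f} : Set G) → v ∈ ({f, z * f} : Set G) → v' ≠ v →
      y * v * y⁻¹ = v' ∧ y * v' * y⁻¹ = z := by
    intro v v' hv hvz hv' hvm hvv
    have h1 := hyV v (by
      simp only [Set.mem_insert_iff, Set.mem_singleton_iff] at hvm ⊢
      rcases hvm with rfl | rfl
      exacts [Or.inr (Or.inr (Or.inl rfl)), Or.inr (Or.inr (Or.inr rfl))])
    simp only [Set.mem_insert_iff, Set.mem_singleton_iff] at h1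
    have hv1 : v ≠ 1 := fun e => S.code.ne (conj_eq_one_iff.1 (hv.trans e))
    have hn1 : y * v * y⁻¹ ≠ 1 := fun e => hv1 (conj_eq_one_iff.1 e)
    have hnv : y * v * y⁻¹ ≠ v := fun e => hvz (hinj v z (e.trans hv.symm))
    have hnz : y * v * y⁻¹ ≠ z := fun e => by
      rw [hv, e, hv] at hy3z
      exact hvz hy3z
    have e1 : y * v * y⁻¹ = v' := by
      simp only [Set.mem_insert_iff, Set.mem_singleton_iff] at hv' hvm
      rcases h1.resolve_left hn1 with e | e | e
      · exact absurd e hnz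
      all_goals rcases hv' with rfl | rfl <;> rcases hvm with rfl | rfl
      all_goals first | exact e | exact absurd e hnv | exact absurd rfl hvv
    refine ⟨e1, ?_⟩
    rw [hv, e1] at hy3z
    exact hy3z
  have hzf : z * f ≠ f := fun e => S.code.ne (mul_eq_right.1 e)
  rcases hyV z (by simp) with e | e | e | e
  · exact absurd (conj_eq_one_iff.1 e) S.code.ne
  · exact absurd e hyz
  · obtain ⟨h1, -⟩ := key f (z * f) e hne (by simp) (by simp) hzf
    exact ⟨y, hyL, hy3, e, h1, hyd⟩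
  · have e : y * z * y⁻¹ = z * f := e
    have hzfz : z * f ≠ z := fun h => hf1 (mul_eq_left.1 h)
    obtain ⟨h1, h2⟩ := key (z * f) f e hzfz (by simp) (by simp) hzf.symm
    refine ⟨y * y, mul_mem hyL hyL, ?_, ?_, ?_, by rw [mul_assoc, hyd, ← mul_assoc, hyd, mul_assoc]⟩
    · calc y * y * (y * y) * (y * y) = (y * y * y) * (y * y * y) := by group
        _ = 1 := by rw [hy3, one_mul]
    · rw [show y * y * z * (y * y)⁻¹ = y * (y * z * y⁻¹) * y⁻¹ by group, e, h1]
    · rw [show y * y * f * (y * y)⁻¹ = y * (y * f * y⁻¹) * y⁻¹ by group, h2, e]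

end Cfsg.Agent.Fus.SuzUniq
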